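import Cfsg.Agent.CoTwoUniq.Basic
import Cfsg.Agent.CoTwoUniq.Defs

/-!
An element of the group normalising the image of the sign changes and moving the involution.
-/

set_option autoImplicit false

open Cfsg

namespace Cfsg.Agent.CoTwoUniq

universe u

variable {G : Type u} [Group G]

/-- The embedding read on a sign change. -/
noncomputable def CentEmb.sg {z : G} (K : CentEmb z) (n : ℕ) : G := by
  classical exact if h : sgn n ∈ C1 then K.g ⟨sgn n, h⟩ else 1

/-- Some element normalises the image of the sign changes and moves the involution. -/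
def CentEmb.HasMover {z : G} (K : CentEmb z) : Prop :=
  ∃ n : G, (∀ v ∈ avMasks, ∃ w ∈ avMasks, n * K.sg v * n⁻¹ = K.sg w) ∧ n * z * n⁻¹ ≠ z

end Cfsg.Agent.CoTwoUniq
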