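import Cfsg.Agent.CoTwoUniq.Mono.Glue
import Cfsg.Agent.CoTwoUniq.Gen

/-!
Finite facts behind the linking: monomial elements of the centraliser conjugated to monomial elements by
the linking element, and the sign changes among them.
-/

set_option autoImplicit false
set_option maxRecDepth 100000

open Cfsg

namespace Cfsg.Agent.CoTwoUniq.Mono

open Cfsg.Agent.Leech (LGen monGen toL bitWord signCo0 permCo0 idx ptOf)
open Cfsg.Agent.CoOneUniq (fcomp sameB0 eq_of_sameB0 idG)

/-- A permutation of the two lists with its action on vectors. -/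
def genL (P Q : List ℕ) (h : PermOK P Q) (hP : ∀ i < 24, P.getD i 0 < 24) : LGen where
  g := permCo0 (perm h) (perm_mem h)
  f l := (List.range 24).map fun a => l.getD (P.getD a 0) 0
  spec v := by
    refine List.map_congr_left fun a ha => ?_
    have hi : a < 24 := List.mem_range.1 ha
    rw [Leech.toL_getD _ _ (hP a hi), Leech.permCo0_apply]
    show (v : GolayPt → ℤ) (ptOf (P.getD (idx (ptOf a)) 0)) = _
    rw [Leech.idx_ptOf a hi]

/-- A sign change with its action on vectors. -/
def sgL (c : ℕ) (h : Av c) : LGen where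
  g := signCo0 (bitWord c) (av_mem h)
  f l := (List.range 24).map fun a => if c.testBit a then -(l.getD a 0) else l.getD a 0
  spec v := by
    refine List.map_congr_left fun a ha => ?_
    have hi : a < 24 := List.mem_range.1 ha
    rw [Leech.toL_getD _ _ hi, Leech.signCo0_apply]
    simp only [Leech.negOn, bitWord, Leech.idx_ptOf a hi]
    cases c.testBit a <;> simp

/-- A generator with its action on vectors. -/
def genG : ℕ → LGen
  | 0 => genL _ _ gens_ok.1 gens_ok.2.2.2.1
  | 1 => genL _ _ gens_ok.2.1 gens_ok.2.2.2.2.1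
  | _ => genL _ _ gens_ok.2.2.1 gens_ok.2.2.2.2.2

theorem inc_gen : ∀ k, inc (pHom (gen k)) = (genG k).g
  | 0 => rfl
  | 1 => rfl
  | _ + 2 => rfl

/-- A word with its action on vectors. -/
noncomputable def wG (w : List ℕ) : LGen := w.foldr (fun k a => fcomp (genG k) a) idG

theorem inc_ev : ∀ w, inc (pHom (ev w)) = (wG w).g
  | [] => (congrArg inc (map_one pHom)).trans (map_one inc)
  | k :: w => by
    rw [ev_cons, map_mul, map_mul, inc_gen, inc_ev w]
    rfl

/-- The image of the marked word under the swap. -/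
def zu : ℕ := evM [2] Data.zm

/-- The conditions on one link. -/
noncomputable def linkB (e : List ℕ × ℕ × List ℕ × ℕ) : Bool :=
  e.1.all (fun k => decide (k < 2)) && e.2.2.1.all (fun k => decide (k < 2)) &&
    evM e.1 zu == zu && evM e.2.2.1 zu == zu && avMasks.elem e.2.1 && avMasks.elem e.2.2.2 &&
    if h : Av e.2.1 ∧ Av e.2.2.2 then
      sameB0 (fcomp xGen (fcomp (wG e.1) (sgL _ h.1)))
        (fcomp (fcomp (wG e.2.2.1) (sgL _ h.2)) xGen)
    else false

theorem links_ok : Data.links.all linkB = true := by decide +kernel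

theorem linkB_spec {e : List ℕ × ℕ × List ℕ × ℕ} (h : linkB e = true) :
    (∀ k ∈ e.1, k < 2) ∧ (∀ k ∈ e.2.2.1, k < 2) ∧ evM e.1 zu = zu ∧ evM e.2.2.1 zu = zu ∧
      e.2.1 ∈ avMasks ∧ e.2.2.2 ∈ avMasks ∧
      x0 * (pHom (ev e.1) * sgn e.2.1) = pHom (ev e.2.2.1) * sgn e.2.2.2 * x0 := by
  simp only [linkB, Bool.and_eq_true, List.all_eq_true, decide_eq_true_eq, beq_iff_eq, List.elem_iff] at h
  obtain ⟨⟨⟨⟨⟨⟨h1, h2⟩, h3⟩, h4⟩, h5⟩, h6⟩, h7⟩ := h
  refine ⟨h1, h2, h3, h4, h5, h6, inc_injective ?_⟩
  rw [dif_pos ⟨avMasks_spec _ h5, avMasks_spec _ h6⟩] at h7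
  simp only [map_mul, inc_ev, inc_x0, inc_sgn (avMasks_spec _ h5), inc_sgn (avMasks_spec _ h6)]
  exact eq_of_sameB0 h7

/-- Spanning masks: nine from the links and one more. -/
def spanGens : List ℕ := [229096, 21116, 72588, 277580, 535268, 1050548, 2101096, 4202192, 8427864]

/-- The outside mask. -/
def bOut : ℕ := 42232

/-- All sums from a list. -/
def spanL : List ℕ → List ℕ
  | [] => [0]
  | a :: t => spanL t ++ (spanL t).map (· ^^^ a)

theorem spanGens_links : spanGens.all (fun c => Data.links.any fun e => e.1 == [] && e.2.1 == c) = true := by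
  decide +kernel

theorem span_ok : bOut ∈ avMasks ∧ (avMasks.all fun n => (spanL (bOut :: spanGens)).elem n) = true := by
  refine ⟨List.contains_iff_mem.1 (by decide +kernel), ?_⟩
  decide +kernel

theorem shift_ok : (avMasks.all fun t => t == 0 ||
    !((spanL spanGens).all fun v => pop (bOut ^^^ v ^^^ t) == pop (bOut ^^^ v))) = true := by
  decide +kernel

theorem dd_ok : Data.dd ∈ spanGens ∧ Data.dd ∈ avMasks ∧ pop Data.dd = 12 := by
  refine ⟨by decide, List.contains_iff_mem.1 (by decide +kernel), by decide +kernel⟩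

theorem fixed_ok : (avMasks.all fun e => !(Data.links.all fun l => evM l.1 e == e) ||
    [0, Data.zm, zu, Data.zm ^^^ zu].elem e) = true := by
  decide +kernel

theorem x0_cube : x0 * (x0 * x0) = 1 := by
  refine inc_injective ?_
  rw [map_mul, map_mul, map_one, inc_x0]
  exact eq_of_sameB0 (show sameB0 (fcomp xGen (fcomp xGen xGen)) idG = true by decide +kernel)

end Cfsg.Agent.CoTwoUniq.Mono
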