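import Cfsg.Agent.CoTwoUniq.Mono.Hom
import Cfsg.Agent.CoTwoUniq.Mono.LinkFacts
import Cfsg.Agent.CoTwoUniq.Eval

/-!
The homomorphism of the monomial group sends the swap to an element commuting with the image of the linking
element.
-/

set_option autoImplicit false
set_option maxRecDepth 100000

open Cfsg

namespace Cfsg.Agent.CoTwoUniq.Mono

open Cfsg.Agent.Leech (bitWord signCo0 permCo0)

theorem gen_two : pHom (gen 2) = u0 := inc_injective (by
  rw [inc_pHom, inc_u0]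
  show permCo0 _ _ = permCo0 _ _ * signCo0 _ _
  rw [Leech.signCo0_congr Leech.bitWord_zero _ (zero_mem _), Leech.signCo0_zero, mul_one]
  rfl)

theorem zu_facts : zu ∈ avMasks ∧ evM [2] zu = Data.zm := by
  refine ⟨List.contains_iff_mem.1 (by decide +kernel), by decide +kernel⟩

theorem mv_swap : mv (gen 2) Data.zm = zu ∧ mv (gen 2) zu = Data.zm :=
  ⟨mv_gen 2 zm_av, (mv_gen 2 zu_facts.1).trans zu_facts.2⟩

/-- The linking element commutes with the sign change of the swapped word. -/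
theorem x0_comm_zu : Commute x0 (sgn zu) := by
  have h0 : Commute x0 (sgn Data.zm) := by
    rw [sgn_zm]; exact Subgroup.mem_centralizer_singleton_iff.1 x0_mem
  have hu : Commute x0 u0 := u0_comm_x0.symm
  have e := (mv_spec (gen 2) zm_av).2.2
  rw [mv_swap.1, gen_two] at e
  rw [← e]
  exact (hu.mul_right h0).mul_right hu.inv_right

/-- The four words fixed by the links commute with the linking element. -/
theorem x0_comm_four : ∀ n ∈ [0, Data.zm, zu, Data.zm ^^^ zu], Commute x0 (sgn n) := by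
  have h0 : Commute x0 (sgn Data.zm) := by
    rw [sgn_zm]; exact Subgroup.mem_centralizer_singleton_iff.1 x0_mem
  intro n hn
  simp only [List.mem_cons, List.not_mem_nil, or_false] at hn
  rcases hn with rfl | rfl | rfl | rfl
  · rw [sgn_zero]; exact Commute.one_right _
  · exact h0
  · exact x0_comm_zu
  · rw [sgn_xor (avMasks_spec _ zm_av) (avMasks_spec _ zu_facts.1)]
    exact h0.mul_right x0_comm_zu

universe u

variable {G : Type u} [Group G] {z : G} (K : CentEmb z)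

/-- An element of the monomial group in the centraliser whose swap is there too. -/
theorem g_swap {F : ↥N1 →* G} (hag : Agree F K.g) {x : K2} (hN : x ∈ N1) (hC : x ∈ C1)
    (hC' : u0 * x * u0⁻¹ ∈ C1) :
    K.g ⟨u0 * x * u0⁻¹, hC'⟩ = F ⟨u0, u0_mem⟩ * K.g ⟨x, hC⟩ * (F ⟨u0, u0_mem⟩)⁻¹ := by
  rw [← hag _ (mul_mem (mul_mem u0_mem hN) (inv_mem u0_mem)) hC', ← hag x hN hC, ← map_inv, ← map_mul,
    ← map_mul]
  rfl

/-- The two copies of the centraliser are linked. -/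
theorem linked {f : ↥MP →* G} (hf : Act K f) {F : ↥N1 →* G} (hag : Agree F K.g)
    (hval : ∀ (x : ↥N1) (n : ℕ), n ∈ avMasks → ∀ σ : ↥MP, (x : K2) = sgn n * pHom σ →
      F x = K.sg n * f σ) : Linked F K.g := by
  have hU : F ⟨u0, u0_mem⟩ = f (gen 2) := by
    rw [hval ⟨u0, u0_mem⟩ 0 zero_av (gen 2) (by rw [sgn_zero, one_mul, gen_two]), sg_zero, one_mul]
  show F ⟨u0, u0_mem⟩ * K.g ⟨x0, x0_mem⟩ = K.g ⟨x0, x0_mem⟩ * F ⟨u0, u0_mem⟩
  obtain ⟨U, hUdef⟩ : ∃ U, U = F ⟨u0, u0_mem⟩ := ⟨_, rfl⟩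
  rw [← hUdef] at hU ⊢
  obtain ⟨X, hXdef⟩ : ∃ X, X = K.g ⟨x0, x0_mem⟩ := ⟨_, rfl⟩
  rw [← hXdef]
  -- the conjugate lies in the centraliser
  have hY : U * X * U⁻¹ ∈ Subgroup.centralizer ({z} : Set G) := by
    have h1 : U * K.sg zu * U⁻¹ = z := by rw [hU, hf _ _ zu_facts.1, mv_swap.2, K.sg_zm]
    have h2 : Commute X (K.sg zu) := by
      rw [hXdef, K.sg_eq zu_facts.1, Commute, SemiconjBy, ← map_mul, ← map_mul]
      exact congrArg K.g (Subtype.ext x0_comm_zu.eq)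
    refine Subgroup.mem_centralizer_singleton_iff.2 ?_
    rw [← h1]
    calc U * X * U⁻¹ * (U * K.sg zu * U⁻¹) = U * (X * K.sg zu) * U⁻¹ := by group
      _ = U * (K.sg zu * X) * U⁻¹ := by rw [h2.eq]
      _ = _ := by group
  rw [← K.range_eq] at hY
  obtain ⟨⟨y, hy⟩, hye⟩ := hY
  obtain ⟨ζ, hζdef⟩ : ∃ ζ, ζ = u0⁻¹ * (x0⁻¹ * y) * u0 := ⟨_, rfl⟩
  -- the difference centralises the links
  have hlink : ∀ e ∈ Data.links, Commute ζ (pHom (ev e.1) * sgn e.2.1) := by
    intro e he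
    obtain ⟨hw, hw', hzu, hzu', hc, hc', hx⟩ := linkB_spec (List.all_eq_true.1 links_ok e he)
    have mem : ∀ (w : List ℕ) (c : ℕ), (∀ k ∈ w, k < 2) → c ∈ avMasks → evM w zu = zu →
        pHom (ev w) * sgn c ∈ N1 ∧ pHom (ev w) * sgn c ∈ C1 ∧
          u0 * (pHom (ev w) * sgn c) * u0⁻¹ ∈ C1 := by
      intro w c hw hc hfx
      refine ⟨mem_N1_of_monoAut (mul_mem (pHom_mono _) ?_), mul_mem (pHom_mem_C1 (ev_fix hw))
        (sgn_mem_C1 hc), Subgroup.mem_centralizer_singleton_iff.2 ?_⟩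
      · exact N1_le_monoK (sgn_mem_N1 (avMasks_spec c hc))
      · have e1 : Commute (pHom (ev w)) (sgn zu) := by
          have e := (mv_spec (ev w) zu_facts.1).2.2
          rw [mv_ev w zu_facts.1, hfx] at e
          exact mul_inv_eq_iff_eq_mul.1 e
        have e2 : Commute (pHom (ev w) * sgn c) (sgn zu) :=
          e1.mul_left (sgn_comm (avMasks_spec c hc) (avMasks_spec _ zu_facts.1))
        have e3 : z0 = u0 * sgn zu * u0⁻¹ := by
          have e := (mv_spec (gen 2) zu_facts.1).2.2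
          rw [mv_swap.2, gen_two, sgn_zm] at e
          exact e.symm
        rw [e3]
        calc u0 * (pHom (ev w) * sgn c) * u0⁻¹ * (u0 * sgn zu * u0⁻¹)
            = u0 * (pHom (ev w) * sgn c * sgn zu) * u0⁻¹ := by group
          _ = u0 * (sgn zu * (pHom (ev w) * sgn c)) * u0⁻¹ := by rw [e2.eq]
          _ = _ := by group
    obtain ⟨hlN, hlC, hlC'⟩ := mem e.1 e.2.1 hw hc hzu
    obtain ⟨hmN, hmC, hmC'⟩ := mem e.2.2.1 e.2.2.2 hw' hc' hzu'
    generalize pHom (ev e.1) * sgn e.2.1 = l at hx hlN hlC hlC' ⊢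
    generalize pHom (ev e.2.2.1) * sgn e.2.2.2 = m at hx hmN hmC hmC'
    have k1 : y * (u0 * l * u0⁻¹) * y⁻¹ = u0 * m * u0⁻¹ := by
      have k : K.g (⟨y, hy⟩ * ⟨_, hlC'⟩ * ⟨y, hy⟩⁻¹) = K.g ⟨_, hmC'⟩ := by
        have hx' : (⟨x0, x0_mem⟩ : ↥C1) * ⟨l, hlC⟩ * ⟨x0, x0_mem⟩⁻¹ = ⟨m, hmC⟩ :=
          Subtype.ext (mul_inv_eq_iff_eq_mul.2 hx)
        rw [map_mul, map_mul, map_inv, hye, g_swap K hag hlN hlC hlC', g_swap K hag hmN hmC hmC', ← hUdef,
          ← hx', map_mul, map_mul, map_inv, ← hXdef]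
        group
      exact congrArg Subtype.val (K.inj k)
    have k2 : x0 * (u0 * l * u0⁻¹) * x0⁻¹ = u0 * m * u0⁻¹ := by
      have hu : Commute u0 x0 := u0_comm_x0
      calc x0 * (u0 * l * u0⁻¹) * x0⁻¹ = x0 * u0 * l * (x0 * u0)⁻¹ := by group
        _ = u0 * x0 * l * (u0 * x0)⁻¹ := by rw [hu.eq]
        _ = u0 * (x0 * l * x0⁻¹) * u0⁻¹ := by group
        _ = _ := by rw [mul_inv_eq_iff_eq_mul.2 hx]
    have k3 : Commute (x0⁻¹ * y) (u0 * l * u0⁻¹) := by
      refine mul_inv_eq_iff_eq_mul.1 ?_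
      calc x0⁻¹ * y * (u0 * l * u0⁻¹) * (x0⁻¹ * y)⁻¹
          = x0⁻¹ * (y * (u0 * l * u0⁻¹) * y⁻¹) * x0 := by group
        _ = x0⁻¹ * (x0 * (u0 * l * u0⁻¹) * x0⁻¹) * x0 := by rw [k1, k2]
        _ = _ := by group
    rw [hζdef]
    show u0⁻¹ * (x0⁻¹ * y) * u0 * l = l * (u0⁻¹ * (x0⁻¹ * y) * u0)
    calc u0⁻¹ * (x0⁻¹ * y) * u0 * l = u0⁻¹ * (x0⁻¹ * y * (u0 * l * u0⁻¹)) * u0 := by group
      _ = u0⁻¹ * (u0 * l * u0⁻¹ * (x0⁻¹ * y)) * u0 := by rw [k3.eq]
      _ = _ := by group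
  have hgen : ∀ c ∈ spanGens, c ∈ avMasks ∧ Commute ζ (sgn c) := by
    intro c hc
    obtain ⟨e, he, hec⟩ := List.any_eq_true.1 (List.all_eq_true.1 spanGens_links c hc)
    simp only [Bool.and_eq_true, beq_iff_eq] at hec
    have h := hlink e he
    have hav := (linkB_spec (List.all_eq_true.1 links_ok e he)).2.2.2.2.1
    rw [hec.1, hec.2, ev_nil, map_one, one_mul] at h
    exact ⟨hec.2 ▸ hav, h⟩
  -- it is monomial
  have hmono : ζ ∈ monoK := by
    obtain ⟨x, hx, hxe⟩ := (conj_by_weight dd_ok.2.1).2.1 dd_ok.2.2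
    have h := (hgen _ dd_ok.1).2
    rw [← hxe] at h
    have h' : Commute (x⁻¹ * ζ * x) (sgn Data.dm) := by
      calc x⁻¹ * ζ * x * sgn Data.dm = x⁻¹ * (ζ * (x * sgn Data.dm * x⁻¹)) * x := by group
        _ = x⁻¹ * (x * sgn Data.dm * x⁻¹ * ζ) * x := by rw [h.eq]
        _ = _ := by group
    have h2 := mul_mem (mul_mem hx (comm_dm_mono h')) (inv_mem hx)
    rwa [show x * (x⁻¹ * ζ * x) * x⁻¹ = ζ by group] at h2
  obtain ⟨n, hn, σ, rfl⟩ := exists_decomp hmono
  -- its permutation is trivial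
  have hσgen : ∀ c ∈ spanGens, mv σ c = c := by
    intro c hc
    obtain ⟨hav, h⟩ := hgen c hc
    refine mv_unique σ hav hav ?_
    have hns := sgn_comm (avMasks_spec n hn) (avMasks_spec c hav)
    calc pHom σ * sgn c * (pHom σ)⁻¹
        = (sgn n)⁻¹ * (sgn n * pHom σ * sgn c) * (pHom σ)⁻¹ := by group
      _ = (sgn n)⁻¹ * (sgn c * (sgn n * pHom σ)) * (pHom σ)⁻¹ := by rw [h.eq]
      _ = (sgn n)⁻¹ * (sgn c * sgn n) := by group
      _ = (sgn n)⁻¹ * (sgn n * sgn c) := by rw [hns.eq]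
      _ = _ := by group
  have hspan : ∀ L : List ℕ, (∀ c ∈ L, c ∈ avMasks ∧ mv σ c = c) →
      ∀ v ∈ spanL L, v ∈ avMasks ∧ mv σ v = v := by
    intro L
    induction L with
    | nil =>
      intro _ v hv
      obtain rfl : v = 0 := by simpa [spanL] using hv
      exact ⟨zero_av, mv_zero σ⟩
    | cons a t ih =>
      intro hL v hv
      have ht := ih fun c hc => hL c (List.mem_cons_of_mem _ hc)
      simp only [spanL, List.mem_append, List.mem_map] at hv
      rcases hv with hv | ⟨w, hw, rfl⟩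
      · exact ht v hv
      · obtain ⟨ha, ha'⟩ := hL a List.mem_cons_self
        obtain ⟨hwa, hw'⟩ := ht w hw
        exact ⟨xor_av hwa ha, by rw [mv_xor σ hwa ha, hw', ha']⟩
  have h9 := hspan spanGens fun c hc => ⟨(hgen c hc).1, hσgen c hc⟩
  have hb : mv σ bOut = bOut := by
    have hbm := (mv_spec σ span_ok.1).1
    have ht := List.all_eq_true.1 shift_ok (mv σ bOut ^^^ bOut) (xor_av hbm span_ok.1)
    simp only [Bool.or_eq_true, beq_iff_eq, Bool.not_eq_true'] at ht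
    rcases ht with ht | ht
    · have := congrArg (fun k => k ^^^ bOut) ht
      simpa [Nat.xor_assoc] using this
    · rw [← Bool.not_eq_true, List.all_eq_true] at ht
      refine absurd (fun v hv => ?_) ht
      obtain ⟨hva, hv'⟩ := h9 v hv
      rw [beq_iff_eq, ← (mv_spec σ (xor_av span_ok.1 hva)).2.1, mv_xor σ span_ok.1 hva, hv']
      congr 1
      rw [Nat.xor_comm bOut v, Nat.xor_assoc, ← Nat.xor_assoc bOut, Nat.xor_comm bOut (mv σ bOut),
        Nat.xor_assoc, Nat.xor_self, Nat.xor_zero, Nat.xor_comm]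
  have hσ1 : σ = 1 := eq_one_of_mv fun v hv => by
    refine (hspan (bOut :: spanGens) (fun c hc => ?_) v
      (List.elem_iff.1 (List.all_eq_true.1 span_ok.2 v hv))).2
    rcases List.mem_cons.1 hc with rfl | hc
    · exact ⟨span_ok.1, hb⟩
    · exact ⟨(hgen c hc).1, hσgen c hc⟩
  subst hσ1
  rw [map_one, mul_one] at hlink hζdef
  -- it is fixed by the permutations of the links
  have h4 : n ∈ [0, Data.zm, zu, Data.zm ^^^ zu] := by
    have h := List.all_eq_true.1 fixed_ok n hn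
    rw [Bool.or_eq_true, Bool.not_eq_true', List.elem_iff] at h
    refine h.resolve_left fun hF => ?_
    rw [← Bool.not_eq_true, List.all_eq_true] at hF
    refine hF fun e he => ?_
    obtain ⟨-, -, -, -, hc, -, -⟩ := linkB_spec (List.all_eq_true.1 links_ok e he)
    rw [beq_iff_eq, ← mv_ev e.1 hn]
    refine mv_unique _ hn hn ?_
    have hns := sgn_comm (avMasks_spec n hn) (avMasks_spec _ hc)
    have hh := hlink e he
    calc pHom (ev e.1) * sgn n * (pHom (ev e.1))⁻¹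
        = pHom (ev e.1) * sgn e.2.1 * ((sgn e.2.1)⁻¹ * sgn n) * (pHom (ev e.1))⁻¹ := by group
      _ = pHom (ev e.1) * sgn e.2.1 * (sgn n * (sgn e.2.1)⁻¹) * (pHom (ev e.1))⁻¹ := by
          rw [hns.inv_right.eq]
      _ = (pHom (ev e.1) * sgn e.2.1 * sgn n) * (pHom (ev e.1) * sgn e.2.1)⁻¹ := by group
      _ = sgn n * (pHom (ev e.1) * sgn e.2.1) * (pHom (ev e.1) * sgn e.2.1)⁻¹ := by rw [hh.eq]
      _ = _ := by group
  have hun : mv (gen 2) n ∈ [0, Data.zm, zu, Data.zm ^^^ zu] := by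
    simp only [List.mem_cons, List.not_mem_nil, or_false] at h4 ⊢
    rcases h4 with rfl | rfl | rfl | rfl
    · exact Or.inl (mv_zero _)
    · exact Or.inr (Or.inr (Or.inl mv_swap.1))
    · exact Or.inr (Or.inl mv_swap.2)
    · refine Or.inr (Or.inr (Or.inr ?_))
      rw [mv_xor _ zm_av zu_facts.1, mv_swap.1, mv_swap.2, Nat.xor_comm]
  have hns := mv_spec (gen 2) hn
  have hy' : y = x0 * sgn (mv (gen 2) n) := by
    rw [← hns.2.2, gen_two, hζdef]
    group
  -- the third power kills it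
  have hy3 : y * (y * y) = 1 := by
    have h := congrArg K.g (Subtype.ext x0_cube :
      (⟨x0, x0_mem⟩ : ↥C1) * (⟨x0, x0_mem⟩ * ⟨x0, x0_mem⟩) = 1)
    rw [map_mul, map_mul, map_one, ← hXdef] at h
    have k : K.g (⟨y, hy⟩ * (⟨y, hy⟩ * ⟨y, hy⟩)) = K.g 1 := by
      rw [map_mul, map_mul, map_one, hye,
        show U * X * U⁻¹ * (U * X * U⁻¹ * (U * X * U⁻¹)) = U * (X * (X * X)) * U⁻¹ by group, h]
      group
    exact congrArg Subtype.val (K.inj k)
  obtain ⟨s, hsdef⟩ : ∃ s, s = sgn (mv (gen 2) n) := ⟨_, rfl⟩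
  have hs2 : s * s = 1 := hsdef ▸ sgn_mul_self (avMasks_spec _ hns.1)
  have hxs : Commute x0 s := hsdef ▸ x0_comm_four _ hun
  rw [← hsdef] at hy'
  have hs : s = 1 := by
    have e : (x0 * s) ^ 3 = 1 := by rw [← hy', pow_succ', pow_two, hy3]
    rw [hxs.mul_pow, show x0 ^ 3 = 1 by rw [pow_succ', pow_two, x0_cube], one_mul, pow_succ',
      pow_two, hs2, mul_one] at e
    exact e
  have hyx : (⟨y, hy⟩ : ↥C1) = ⟨x0, x0_mem⟩ := Subtype.ext (show y = x0 by rw [hy', hs, mul_one])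
  rw [hyx, ← hXdef] at hye
  exact mul_inv_eq_iff_eq_mul.1 hye.symm

/-- The monomial group embeds, compatibly with the centraliser and linked to it. -/
theorem exists_mono [Finite G] (hF : K.HasFusion) (hfull : K.HasFull) (hn : K.HasMover) :
    ∃ F : ↥N1 →* G, Function.Injective F ∧ Agree F K.g ∧ Linked F K.g := by
  obtain ⟨f, hf, hfix⟩ := exists_lift K hF hfull hn
  obtain ⟨F, hinj, hag, hval⟩ := exists_hom K hf hfix
  exact ⟨F, hinj, hag, linked K hf hag hval⟩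

end Cfsg.Agent.CoTwoUniq.Mono
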