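import Cfsg.Agent.CoTwoUniq.Orbits
import Cfsg.Agent.CoTwoUniq.Link
import Cfsg.Agent.CoTwoUniq.Mono.Data

/-!
The coordinate permutations of the model, their action on masks, and the monomial group as sign
changes times permutations.
-/

set_option autoImplicit false
set_option maxRecDepth 100000

open Cfsg

namespace Cfsg.Agent.CoTwoUniq.Mono

open Cfsg.Agent.Leech (bitWord signCo0 permCo0 idx ptOf)

/-- The permutations of the code fixing the marked vector. -/
def MP : Subgroup (Equiv.Perm GolayPt) where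
  carrier := {σ | σ ∈ M24 ∧ ∀ p, Spor.vecU (σ p) = Spor.vecU p}
  one_mem' := ⟨one_mem _, fun _ => rfl⟩
  mul_mem' := fun {a b} ha hb => ⟨mul_mem ha.1 hb.1, fun p => (ha.2 (b p)).trans (hb.2 p)⟩
  inv_mem' := fun {a} ha => ⟨inv_mem ha.1, fun p => by
    have h := ha.2 (a⁻¹ p)
    rw [← Equiv.Perm.mul_apply, mul_inv_cancel, Equiv.Perm.one_apply] at h
    exact h.symm⟩

theorem fix_vec (σ : ↥MP) : permCo0 σ.1 σ.2.1 • Spor.leechU = Spor.leechU :=
  Subtype.ext (funext fun p => by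
    rw [Leech.permCo0_apply]
    exact (MP.inv_mem σ.2).2 p)

/-- A permutation as an element of the model. -/
def pHom : ↥MP →* K2 :=
  MonoidHom.mk' (fun σ => mk (permCo0 σ.1 σ.2.1) (fix_vec σ)) fun a b =>
    inc_injective (by
      rw [map_mul, inc_mk, inc_mk, inc_mk, ← Leech.permCo0_mul]
      rfl)

theorem inc_pHom (σ : ↥MP) : inc (pHom σ) = permCo0 σ.1 σ.2.1 := rfl

theorem pHom_mono (σ : ↥MP) : pHom σ ∈ monoK :=
  ⟨σ.1, σ.2.1, 0, zero_mem _, by rw [inc_pHom, Leech.signCo0_zero, one_mul]⟩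

/-- Masks with equal words and no high bits are equal. -/
theorem eq_of_bitWord {m n : ℕ} (hm : m < 2 ^ 24) (hn : n < 2 ^ 24) (h : bitWord m = bitWord n) :
    m = n := by
  refine Nat.eq_of_testBit_eq fun i => ?_
  by_cases hi : i < 24
  · have e := congrFun h (ptOf i)
    simp only [bitWord, Leech.idx_ptOf i hi] at e
    cases h1 : m.testBit i <;> cases h2 : n.testBit i <;> simp [h1, h2] at e ⊢
  · rw [Nat.testBit_lt_two_pow (lt_of_lt_of_le hm (Nat.pow_le_pow_right (by norm_num) (by omega))),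
      Nat.testBit_lt_two_pow (lt_of_lt_of_le hn (Nat.pow_le_pow_right (by norm_num) (by omega)))]

theorem av_lt : ∀ n ∈ avMasks, n < 2 ^ 24 := by
  have h : (avMasks.all fun n => decide (n < 2 ^ 24)) = true := by decide +kernel
  exact fun n hn => of_decide_eq_true (List.all_eq_true.1 h n hn)

theorem zero_av : 0 ∈ avMasks := List.contains_iff_mem.1 (by decide +kernel)

theorem zm_av : Data.zm ∈ avMasks := List.contains_iff_mem.1 (by decide +kernel)

theorem bitWord_av {n : ℕ} (hn : n ∈ avMasks) :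
    bitWord n none = 0 ∧ bitWord n (some 0) = 0 := by
  obtain ⟨-, h0, h1⟩ := avMasks_spec n hn
  rw [bitWord_none, bitWord_zeroPt, h0, h1]
  exact ⟨rfl, rfl⟩

theorem xor_av {m n : ℕ} (hm : m ∈ avMasks) (hn : n ∈ avMasks) : m ^^^ n ∈ avMasks := by
  obtain ⟨k, hk, hke, -⟩ := exists_sgn (sgn (m ^^^ n))
    (inc_sgn (av_add (avMasks_spec m hm) (avMasks_spec n hn)))
  rwa [← eq_of_bitWord (av_lt k hk) (Nat.xor_lt_two_pow (av_lt m hm) (av_lt n hn)) hke]

theorem sgn_inj {m n : ℕ} (hm : m ∈ avMasks) (hn : n ∈ avMasks) (h : sgn m = sgn n) : m = n := by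
  have e := congrArg inc h
  rw [inc_sgn (avMasks_spec m hm), inc_sgn (avMasks_spec n hn)] at e
  refine eq_of_bitWord (av_lt m hm) (av_lt n hn) (funext fun p => ?_)
  have e2 := congrFun (congrArg Subtype.val (congrArg (fun g : ↥Co0 => g • Leech.oct p) e)) p
  simp only [Leech.signCo0_apply, Leech.negOn, Leech.oct, Pi.single_eq_same] at e2
  rcases Leech.zmod2_cases (bitWord m p) with a | a <;>
    rcases Leech.zmod2_cases (bitWord n p) with b | b <;> rw [a, b] <;> simp [a, b] at e2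

/-- The monomial elements are sign changes times permutations. -/
theorem exists_decomp {x : K2} (hx : x ∈ monoK) : ∃ n ∈ avMasks, ∃ σ : ↥MP, x = sgn n * pHom σ := by
  obtain ⟨σ, hσ, c, hc, hm⟩ := hx
  have hu := inc_fix x
  rw [hm, mul_smul] at hu
  have hσu : ∀ p, Spor.vecU (σ⁻¹ p) = Spor.vecU p := fun p => by
    have h := congrFun (congrArg Subtype.val hu) p
    rw [Leech.signCo0_apply] at h
    simp only [Leech.negOn, Leech.permCo0_apply] at h
    change (if c p = 0 then Spor.vecU (σ⁻¹ p) else -Spor.vecU (σ⁻¹ p)) = Spor.vecU p at h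
    split_ifs at h with hc0
    · exact h
    · have h0 : ∀ q, 0 ≤ Spor.vecU q := fun q => by unfold Spor.vecU; split_ifs <;> norm_num
      have := h0 (σ⁻¹ p); have := h0 p
      omega
  have hσm : σ ∈ MP := ⟨hσ, fun p => by
    have h := hσu (σ p)
    rw [← Equiv.Perm.mul_apply, inv_mul_cancel, Equiv.Perm.one_apply] at h
    exact h.symm⟩
  obtain ⟨n, hn, -, hne⟩ := exists_sgn (x * (pHom ⟨σ, hσm⟩)⁻¹) (c := c) (hc := hc) (by
    rw [map_mul, map_inv, inc_pHom, hm, mul_inv_cancel_right])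
  exact ⟨n, hn, ⟨σ, hσm⟩, by rw [← hne, inv_mul_cancel_right]⟩

/-- The image of a mask under a permutation. -/
noncomputable def mv (σ : ↥MP) (n : ℕ) : ℕ := by
  classical exact if h : n ∈ avMasks then (mono_conj_sgn (pHom_mono σ) h).choose else 0

theorem mv_spec (σ : ↥MP) {n : ℕ} (hn : n ∈ avMasks) :
    mv σ n ∈ avMasks ∧ pop (mv σ n) = pop n ∧ pHom σ * sgn n * (pHom σ)⁻¹ = sgn (mv σ n) := by
  rw [mv, dif_pos hn]
  exact (mono_conj_sgn (pHom_mono σ) hn).choose_spec

theorem mv_unique (σ : ↥MP) {n m : ℕ} (hn : n ∈ avMasks) (hm : m ∈ avMasks)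
    (h : pHom σ * sgn n * (pHom σ)⁻¹ = sgn m) : mv σ n = m :=
  sgn_inj (mv_spec σ hn).1 hm ((mv_spec σ hn).2.2.symm.trans h)

theorem mv_mul (σ τ : ↥MP) {n : ℕ} (hn : n ∈ avMasks) : mv (σ * τ) n = mv σ (mv τ n) := by
  refine mv_unique _ hn (mv_spec σ (mv_spec τ hn).1).1 ?_
  rw [← (mv_spec σ (mv_spec τ hn).1).2.2, ← (mv_spec τ hn).2.2, map_mul]
  group

theorem mv_one {n : ℕ} (hn : n ∈ avMasks) : mv 1 n = n :=
  mv_unique _ hn hn (by rw [map_one]; group)

theorem mv_xor (σ : ↥MP) {m n : ℕ} (hm : m ∈ avMasks) (hn : n ∈ avMasks) :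
    mv σ (m ^^^ n) = mv σ m ^^^ mv σ n := by
  obtain ⟨h1, -, e1⟩ := mv_spec σ hm
  obtain ⟨h2, -, e2⟩ := mv_spec σ hn
  refine mv_unique _ (xor_av hm hn) (xor_av h1 h2) ?_
  rw [sgn_xor (avMasks_spec m hm) (avMasks_spec n hn), sgn_xor (avMasks_spec _ h1) (avMasks_spec _ h2),
    ← e1, ← e2]
  group

theorem mv_zero (σ : ↥MP) : mv σ 0 = 0 :=
  mv_unique _ zero_av zero_av (by rw [sgn_zero]; group)

/-- The word of the image. -/
theorem bitWord_mv (σ : ↥MP) {n : ℕ} (hn : n ∈ avMasks) :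
    bitWord (mv σ n) = fun p => bitWord n (σ.1⁻¹ p) := by
  obtain ⟨h, -, e⟩ := mv_spec σ hn
  have e1 := congrArg inc e
  rw [map_mul, map_mul, map_inv, inc_pHom, inc_sgn (avMasks_spec n hn), inc_sgn (avMasks_spec _ h),
    Leech.conj_perm_sign] at e1
  obtain ⟨k, hk, hke, hks⟩ := exists_sgn (sgn (mv σ n))
    ((inc_sgn (avMasks_spec _ h)).trans e1.symm)
  rw [sgn_inj h hk hks]
  exact hke

/-! ### The three generators -/

theorem gens_ok : PermOK Data.pA Data.qA ∧ PermOK Data.pB Data.qB ∧ PermOK Data.pU Data.qU ∧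
    (∀ i < 24, Data.pA.getD i 0 < 24) ∧ (∀ i < 24, Data.pB.getD i 0 < 24) ∧
    ∀ i < 24, Data.pU.getD i 0 < 24 := by
  refine ⟨?_, ?_, ?_, ?_, ?_, ?_⟩ <;> decide +kernel

theorem perm_mem_MP {P Q : List ℕ} (h : PermOK P Q) : perm h ∈ MP := by
  refine ⟨perm_mem h, fun p => ?_⟩
  have e := congrFun (congrArg Subtype.val (permCo0_fix (perm_mem h) h.2.2.2)) (perm h p)
  rw [Leech.permCo0_apply, ← Equiv.Perm.mul_apply, inv_mul_cancel, Equiv.Perm.one_apply] at e
  exact e.symm

/-- A generator from its number. -/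
def gen : ℕ → ↥MP
  | 0 => ⟨perm gens_ok.1, perm_mem_MP _⟩
  | 1 => ⟨perm gens_ok.2.1, perm_mem_MP _⟩
  | _ => ⟨perm gens_ok.2.2.1, perm_mem_MP _⟩

/-- The preimage list of a generator. -/
def genP : ℕ → List ℕ
  | 0 => Data.pA
  | 1 => Data.pB
  | _ => Data.pU

/-- The permutation of a word, read as a product. -/
def ev (w : List ℕ) : ↥MP := (w.map gen).prod

/-- The action of a word on masks. -/
def evM (w : List ℕ) (n : ℕ) : ℕ := w.foldr (fun k m => pmask (genP k) m) n

theorem pmask_lt (P : List ℕ) (n : ℕ) : pmask P n < 2 ^ 24 := by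
  refine Nat.lt_pow_two_of_testBit _ fun i hi => ?_
  rw [pmask]
  have key : ∀ l : List ℕ, (∀ j ∈ l, j < 24) →
      (l.foldr (fun j m => (if n.testBit (P.getD j 0) then 2 ^ j else 0) ||| m) 0).testBit i = false := by
    intro l hl
    induction l with
    | nil => simp
    | cons a t ih =>
      rw [List.foldr_cons, Nat.testBit_or, ih fun j hj => hl j (List.mem_cons_of_mem _ hj),
        Bool.or_false]
      split_ifs
      · exact Nat.testBit_two_pow_of_ne (by have := hl a List.mem_cons_self; omega)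
      · simp
  exact key _ fun j hj => List.mem_range.1 hj

theorem mv_gen (k : ℕ) {n : ℕ} (hn : n ∈ avMasks) : mv (gen k) n = pmask (genP k) n := by
  have key : ∀ (P Q : List ℕ) (h : PermOK P Q) (_ : ∀ i < 24, P.getD i 0 < 24),
      mv ⟨perm h, perm_mem_MP h⟩ n = pmask P n := fun P Q h hP => by
    refine eq_of_bitWord (av_lt _ (mv_spec _ hn).1) (pmask_lt P n) ?_
    rw [bitWord_mv _ hn, bitWord_pmask h hP]
  obtain ⟨hA, hB, hU, hA', hB', hU'⟩ := gens_ok
  match k with
  | 0 => exact key _ _ hA hA'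
  | 1 => exact key _ _ hB hB'
  | _ + 2 => exact key _ _ hU hU'

theorem ev_nil : ev [] = 1 := rfl

theorem ev_cons (k : ℕ) (w : List ℕ) : ev (k :: w) = gen k * ev w := List.prod_cons

theorem ev_append (v w : List ℕ) : ev (v ++ w) = ev v * ev w := by
  rw [ev, List.map_append, List.prod_append]; rfl

theorem mv_ev : ∀ (w : List ℕ) {n : ℕ}, n ∈ avMasks → mv (ev w) n = evM w n
  | [], n, hn => mv_one hn
  | k :: w, n, hn => by
    rw [ev_cons, mv_mul _ _ hn, mv_ev w hn, mv_gen k ((mv_ev w hn) ▸ (mv_spec (ev w) hn).1)]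
    rfl

theorem evM_av (w : List ℕ) {n : ℕ} (hn : n ∈ avMasks) : evM w n ∈ avMasks :=
  mv_ev w hn ▸ (mv_spec (ev w) hn).1

theorem vecU_cases : ∀ p : GolayPt, (Spor.vecU p = 4 ∧ (p = none ∨ p = some 0)) ∨ Spor.vecU p = 0 := by
  intro p
  by_cases h : p = none ∨ p = some 0
  · exact Or.inl ⟨if_pos h, h⟩
  · exact Or.inr (if_neg h)

/-- A permutation fixing every word fixing the pair is trivial. -/
theorem eq_one_of_mv {σ : ↥MP} (h : ∀ n ∈ avMasks, mv σ n = n) : σ = 1 := by
  have sep : ∀ p q : GolayPt, Spor.vecU p = 0 → Spor.vecU q = 0 →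
      ((avMasks.all fun n => n.testBit (idx p) == n.testBit (idx q)) = true) → p = q := by decide +kernel
  obtain ⟨g, hgdef⟩ : ∃ g : Equiv.Perm GolayPt, g = σ.1⁻¹ := ⟨_, rfl⟩
  have hgM : g ∈ M24 := hgdef ▸ (MP.inv_mem σ.2).1
  have hg : ∀ p, Spor.vecU (g p) = Spor.vecU p := hgdef ▸ (MP.inv_mem σ.2).2
  have h22 : ∀ p, Spor.vecU p = 0 → g p = p := fun p hp => by
    refine (sep _ _ hp ((hg p).trans hp) (List.all_eq_true.2 fun n hn => ?_)).symm
    have e := congrFun (bitWord_mv σ hn) p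
    rw [h n hn, ← hgdef] at e
    simp only [bitWord] at e
    revert e
    cases n.testBit (idx p) <;> cases n.testBit (idx (g p)) <;> simp
  have hpair : g none = none ∧ g (some 0) = some 0 ∨ g none = some 0 ∧ g (some 0) = none := by
    have hn := vecU_cases (g none)
    have hs := vecU_cases (g (some 0))
    rw [hg, show Spor.vecU none = 4 from rfl] at hn
    rw [hg, show Spor.vecU (some 0) = 4 from rfl] at hs
    simp only [true_and, show ((4 : ℤ) = 0) = False by simp, or_false] at hn hs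
    have hne : g none ≠ g (some 0) := fun e => by cases g.injective e
    rcases hn with e1 | e1 <;> rcases hs with e2 | e2
    · exact absurd (e1.trans e2.symm) hne
    · exact Or.inl ⟨e1, e2⟩
    · exact Or.inr ⟨e1, e2⟩
    · exact absurd (e1.trans e2.symm) hne
  have hall : ∀ p, g p = p := by
    rcases hpair with ⟨e1, e2⟩ | ⟨e1, e2⟩
    · intro p
      rcases vecU_cases p with ⟨-, rfl | rfl⟩ | hp
      exacts [e1, e2, h22 p hp]
    · exfalso
      have hgeq : g = Equiv.swap none (some 0) := Equiv.ext fun p => by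
        rcases vecU_cases p with ⟨-, rfl | rfl⟩ | hp
        · rw [e1, Equiv.swap_apply_left]
        · rw [e2, Equiv.swap_apply_right]
        · rw [h22 p hp, Equiv.swap_apply_of_ne_of_ne] <;> rintro rfl <;>
            exact absurd hp (by decide +kernel)
      obtain ⟨n, hn, hn'⟩ : ∃ n ∈ Leech.allMasks, Leech.dec (bitWord n ∘ ⇑(Equiv.swap none (some 0) :
          Equiv.Perm GolayPt)) ≠ bitWord n ∘ ⇑(Equiv.swap none (some 0) : Equiv.Perm GolayPt) := by
        have e : ∃ n ∈ (Leech.allMasks.filter fun n => n.testBit 0 && !n.testBit 1).take 1, Leech.dec (bitWord n ∘ ⇑(Equiv.swap none (some 0) :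
            Equiv.Perm GolayPt)) ≠ bitWord n ∘ ⇑(Equiv.swap none (some 0) : Equiv.Perm GolayPt) := by
          decide +kernel
        obtain ⟨n, hn, e⟩ := e
        exact ⟨n, (List.mem_filter.1 (List.mem_of_mem_take hn)).1, e⟩
      exact hn' ((Leech.mem_iff _).1 (hgeq ▸ Leech.comp_mem_of_M24 hgM (allMasks_mem n hn)))
  refine inv_eq_one.1 (Subtype.ext (Equiv.ext fun p => ?_))
  show σ.1⁻¹ p = p
  rw [← hgdef]
  exact hall p

end Cfsg.Agent.CoTwoUniq.Mono
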