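import Cfsg.Agent.CoTwoUniq.Mono.Glue

/-!
Finite facts about derivations of the stabiliser of the marked word into the sign changes.
-/

set_option autoImplicit false
set_option maxRecDepth 100000

open Cfsg

namespace Cfsg.Agent.CoTwoUniq.Mono

/-- The value of a derivation at a word, from its values at the two generators. -/
def dW (va vb : ℕ) (w : List ℕ) : ℕ :=
  w.foldr (fun k m => (if k = 0 then va else vb) ^^^ pmask (genP k) m) 0

/-- A word acts trivially exactly when it is the trivial permutation. -/
theorem ev_eq_of {v w : List ℕ} (h : ∀ n ∈ avMasks, evM v n = evM w n) : ev v = ev w :=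
  (inv_mul_eq_one.1 (eq_one_of_mv fun n hn => by
    have e : mv (ev v) n = mv (ev w) n := by rw [mv_ev v hn, mv_ev w hn, h n hn]
    rw [mv_mul _ _ hn, e, ← mv_mul _ _ hn, inv_mul_cancel, mv_one hn])).symm

theorem five_ok : (avMasks.all fun n => evM [0, 0, 0, 0, 0] n == n) = true := by decide +kernel

theorem rels_ok : (Data.rels.all fun r => r.1.all (fun k => decide (k < 2)) &&
    r.2.all (fun k => decide (k < 2)) && avMasks.all fun n => evM r.1 n == evM r.2 n) = true := by
  decide +kernel

theorem solA_ok : (avMasks.all fun va => dW va 0 [0, 0, 0, 0, 0] != 0 ||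
    Data.solA.any fun e => e.1 == va && (Leech.allMasks.elem e.2 && dlMask Data.pA e.2 == va)) = true := by
  decide +kernel

theorem solB_ok : (avMasks.all fun vb => !(Data.rels.all fun r => dW 0 vb r.1 == dW 0 vb r.2) ||
    Data.solB.any fun e => e.1 == vb && (Leech.allMasks.elem e.2.1 && dlMask Data.pA e.2.1 == 0 &&
      (dlMask Data.pB e.2.1 ^^^ (if e.2.2 then Data.zm else 0)) == vb)) = true := by
  decide +kernel

end Cfsg.Agent.CoTwoUniq.Mono
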