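import Cfsg.Agent.CoTwoUniq.Mono.Twist
import Cfsg.Agent.CoTwoUniq.Mono.DeriveFacts

/-!
A lift of the coordinate permutations agreeing with the embedding on the stabiliser of the marked word.

The difference from a lift is a derivation into the sign changes; its values at the two generators
satisfy the relations, so it is a shift up to the twist.
-/

set_option autoImplicit false
set_option maxRecDepth 100000

open Cfsg

namespace Cfsg.Agent.CoTwoUniq.Mono

theorem gfix {k : ℕ} (hk : k < 2) : mv (gen k) Data.zm = Data.zm := by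
  rw [mv_gen k zm_av]; exact evM_zm k hk

universe u

variable {G : Type u} [Group G] {z : G} (K : CentEmb z)

theorem diff_eq {f : ↥MP →* G} (hf : Act K f) {k : ℕ} (hk : k < 2) :
    ∃ v ∈ avMasks, K.g ⟨pHom (gen k), pHom_mem_C1 (gfix hk)⟩ = K.sg v * f (gen k) := by
  obtain ⟨v, hv, e⟩ := trivial_act K (U := K.g ⟨pHom (gen k), pHom_mem_C1 (gfix hk)⟩ * (f (gen k))⁻¹)
    fun v hv => by
      have hw := (mv_spec (gen k)⁻¹ hv).1
      have h1 : (f (gen k))⁻¹ * K.sg v * f (gen k) = K.sg (mv (gen k)⁻¹ v) := by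
        have := hf (gen k)⁻¹ v hv
        rwa [map_inv, inv_inv] at this
      have h2 : K.g ⟨pHom (gen k), pHom_mem_C1 (gfix hk)⟩ * K.sg (mv (gen k)⁻¹ v) *
          (K.g ⟨pHom (gen k), pHom_mem_C1 (gfix hk)⟩)⁻¹ = K.sg v := by
        rw [K.sg_eq hw, K.sg_eq hv, ← map_inv, ← map_mul, ← map_mul]
        refine congrArg K.g (Subtype.ext ?_)
        have e := (mv_spec (gen k) hw).2.2
        rw [← mv_mul _ _ hv, mul_inv_cancel, mv_one hv] at e
        exact e
      rw [← h1] at h2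
      refine Eq.trans ?_ h2
      group
  exact ⟨v, hv, mul_inv_eq_iff_eq_mul.1 e⟩

theorem g_word {f : ↥MP →* G} (hf : Act K f) {va vb : ℕ} (ha : va ∈ avMasks) (hb : vb ∈ avMasks)
    (hA : K.g ⟨pHom (gen 0), pHom_mem_C1 (gfix (k := 0) (by norm_num))⟩ = K.sg va * f (gen 0))
    (hB : K.g ⟨pHom (gen 1), pHom_mem_C1 (gfix (k := 1) (by norm_num))⟩ = K.sg vb * f (gen 1)) :
    ∀ (w : List ℕ) (h : ∀ k ∈ w, k < 2), dW va vb w ∈ avMasks ∧
      K.g ⟨pHom (ev w), pHom_mem_C1 (ev_fix h)⟩ = K.sg (dW va vb w) * f (ev w) := by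
  intro w
  induction w with
  | nil =>
    intro _
    refine ⟨zero_av, ?_⟩
    show _ = K.sg 0 * f (ev [])
    rw [sg_zero, one_mul]
    exact (congrArg K.g (Subtype.ext (map_one pHom))).trans ((map_one K.g).trans (map_one f).symm)
  | cons k t ih =>
    intro h
    have ht : ∀ j ∈ t, j < 2 := fun j hj => h j (List.mem_cons_of_mem _ hj)
    have hk2 := h k List.mem_cons_self
    obtain ⟨hd, he⟩ := ih ht
    have hm := mv_gen k hd
    have hm' := (mv_spec (gen k) hd).1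
    rw [hm] at hm'
    have e : (⟨pHom (ev (k :: t)), pHom_mem_C1 (ev_fix h)⟩ : ↥C1) =
        ⟨pHom (gen k), pHom_mem_C1 (gfix hk2)⟩ * ⟨pHom (ev t), pHom_mem_C1 (ev_fix ht)⟩ :=
      Subtype.ext ((congrArg pHom (ev_cons k t)).trans (map_mul pHom _ _))
    have key : ∀ c ∈ avMasks, ∀ x : G, K.sg c * f (gen k) * (K.sg (dW va vb t) * x) =
        K.sg (c ^^^ pmask (genP k) (dW va vb t)) * (f (gen k) * x) := by
      intro c hc x
      rw [K.sg_xor hc hm', ← hm, ← hf (gen k) _ hd]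
      group
    have hev : f (ev (k :: t)) = f (gen k) * f (ev t) := by rw [ev_cons, map_mul]
    rw [hev]
    have hstep : dW va vb (k :: t) =
        (if k = 0 then va else vb) ^^^ pmask (genP k) (dW va vb t) := rfl
    rw [hstep]
    rcases (show k = 0 ∨ k = 1 by omega) with rfl | rfl
    · refine ⟨xor_av ha hm', ?_⟩
      refine (congrArg K.g e).trans ((map_mul K.g _ _).trans ?_)
      rw [hA, he, if_pos rfl]
      exact key va ha _
    · refine ⟨xor_av hb hm', ?_⟩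
      refine (congrArg K.g e).trans ((map_mul K.g _ _).trans ?_)
      rw [hB, he, if_neg (by decide)]
      exact key vb hb _

/-- A lift agreeing with the embedding on the stabiliser. -/
theorem exists_lift [Finite G] (hF : K.HasFusion) (hfull : K.HasFull) (hn : K.HasMover) :
    ∃ f : ↥MP →* G, Act K f ∧
      ∀ (σ : ↥MP) (h : mv σ Data.zm = Data.zm), K.g ⟨pHom σ, pHom_mem_C1 h⟩ = f σ := by
  obtain ⟨hre, hgen⟩ := re_top K hF hfull hn
  obtain ⟨f₀, hf₀⟩ := exists_act K hre hgen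
  obtain ⟨va, hva, ea⟩ := diff_eq K hf₀ (k := 0) (by norm_num)
  obtain ⟨vb₀, hvb₀, eb₀⟩ := diff_eq K hf₀ (k := 1) (by norm_num)
  -- the value at the first generator
  have h5 : ∀ k ∈ [0, 0, 0, 0, 0], k < 2 := by simp
  have h50 : dW va 0 [0, 0, 0, 0, 0] = 0 := by
    obtain ⟨hd, he⟩ := g_word K hf₀ hva hvb₀ ea eb₀ _ h5
    have e1 : ev [0, 0, 0, 0, 0] = 1 :=
      (ev_eq_of (w := []) fun n hn => beq_iff_eq.1 (List.all_eq_true.1 five_ok n hn)).trans ev_nil
    have e2 : dW va vb₀ [0, 0, 0, 0, 0] = dW va 0 [0, 0, 0, 0, 0] := by simp [dW]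
    rw [← e2]
    refine K.sg_inj hd zero_av ?_
    rw [sg_zero]
    have : K.g ⟨pHom (ev [0, 0, 0, 0, 0]), pHom_mem_C1 (ev_fix h5)⟩ = 1 :=
      (congrArg K.g (Subtype.ext ((congrArg pHom e1).trans (map_one pHom)))).trans (map_one K.g)
    rw [this, e1, map_one, mul_one] at he
    exact he.symm
  obtain ⟨⟨va', c⟩, -, hc⟩ := List.any_eq_true.1
    ((Bool.or_eq_true_iff.1 (List.all_eq_true.1 solA_ok va hva)).resolve_left (by simp [h50]))
  simp only [Bool.and_eq_true, beq_iff_eq, List.elem_iff] at hc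
  obtain ⟨-, hcm, hcv⟩ := hc
  obtain ⟨f₁, hf₁, e₁⟩ := exists_shift K hf₀ hcm
  have hA₁ : K.g ⟨pHom (gen 0), pHom_mem_C1 (gfix (k := 0) (by norm_num))⟩ = K.sg 0 * f₁ (gen 0) := by
    rw [ea, sg_zero, one_mul, e₁ 0, show genP 0 = Data.pA from rfl, hcv]
  obtain ⟨vb, hvb, eb⟩ := diff_eq K hf₁ (k := 1) (by norm_num)
  -- the value at the second generator
  have hrel : (Data.rels.all fun r => dW 0 vb r.1 == dW 0 vb r.2) = true := by
    refine List.all_eq_true.2 fun r hr => beq_iff_eq.2 ?_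
    have h := List.all_eq_true.1 rels_ok r hr
    simp only [Bool.and_eq_true, List.all_eq_true, decide_eq_true_eq, beq_iff_eq] at h
    obtain ⟨⟨h1, h2⟩, h3⟩ := h
    obtain ⟨d1, g1⟩ := g_word K hf₁ zero_av hvb hA₁ eb r.1 h1
    obtain ⟨d2, g2⟩ := g_word K hf₁ zero_av hvb hA₁ eb r.2 h2
    have e : ev r.1 = ev r.2 := ev_eq_of h3
    refine K.sg_inj d1 d2 (mul_right_cancel (b := f₁ (ev r.2)) ?_)
    calc K.sg (dW 0 vb r.1) * f₁ (ev r.2) = K.sg (dW 0 vb r.1) * f₁ (ev r.1) := by rw [e]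
      _ = K.g ⟨pHom (ev r.1), pHom_mem_C1 (ev_fix h1)⟩ := g1.symm
      _ = K.g ⟨pHom (ev r.2), pHom_mem_C1 (ev_fix h2)⟩ := congrArg K.g (Subtype.ext (congrArg pHom e))
      _ = K.sg (dW 0 vb r.2) * f₁ (ev r.2) := g2
  obtain ⟨⟨vb', c', ε⟩, -, hc'⟩ := List.any_eq_true.1
    ((Bool.or_eq_true_iff.1 (List.all_eq_true.1 solB_ok vb hvb)).resolve_left (by simp [hrel]))
  simp only [Bool.and_eq_true, beq_iff_eq, List.elem_iff] at hc'
  obtain ⟨-, ⟨hcm', hcA⟩, hcB⟩ := hc'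
  obtain ⟨f₂, hf₂, e₂⟩ := exists_shift K hf₁ hcm'
  have hA₂ : K.g ⟨pHom (gen 0), pHom_mem_C1 (gfix (k := 0) (by norm_num))⟩ = K.sg 0 * f₂ (gen 0) := by
    rw [hA₁, e₂ 0, show genP 0 = Data.pA from rfl, hcA, sg_zero, one_mul, one_mul]
  cases ε
  · simp only [Bool.false_eq_true, if_false, Nat.xor_zero] at hcB
    have hB₂ : K.g ⟨pHom (gen 1), pHom_mem_C1 (gfix (k := 1) (by norm_num))⟩ = K.sg 0 * f₂ (gen 1) := by
      rw [eb, e₂ 1, show genP 1 = Data.pB from rfl, hcB, sg_zero, one_mul]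
    refine ⟨f₂, hf₂, fun σ h => ?_⟩
    obtain ⟨w, hw, rfl⟩ := exists_ev_fix h
    obtain ⟨-, e⟩ := g_word K hf₂ zero_av zero_av hA₂ hB₂ w hw
    have h0 : ∀ l : List ℕ, dW 0 0 l = 0 := fun l => by
      induction l with
      | nil => rfl
      | cons k t ih =>
        show (if k = 0 then 0 else 0) ^^^ pmask (genP k) (dW 0 0 t) = 0
        rw [ih, ← mv_gen k zero_av, mv_zero, ite_self, Nat.xor_self]
    rw [e, h0, sg_zero, one_mul]
  · simp only [if_true] at hcB
    exfalso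
    have hd : dlMask Data.pB c' = vb ^^^ Data.zm := by
      rw [← hcB, Nat.xor_assoc, Nat.xor_self, Nat.xor_zero]
    refine no_twist K hF hfull hf₂ (hA₂.trans (by rw [sg_zero, one_mul])) (eb.trans ?_)
    rw [e₂ 1, show genP 1 = Data.pB from rfl, hd, Nat.xor_comm vb Data.zm, K.sg_xor zm_av hvb, K.sg_zm,
      mul_assoc z, ← mul_assoc z z, show z * z = 1 by
        rw [← K.sg_zm, ← K.sg_xor zm_av zm_av, Nat.xor_self, sg_zero], one_mul]

end Cfsg.Agent.CoTwoUniq.Mono
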