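import Cfsg.Agent.CoTwoUniq.Mono.Realise
import Cfsg.Agent.Core.Gaschutz
import Cfsg.Agent.Leech.CentTwoQuot

/-!
A homomorphism on the coordinate permutations agreeing with the embedding of the centraliser.

A lift exists by Gaschütz's theorem; on the stabiliser of the marked word it differs from the
embedding by a derivation, which is a restriction up to one twist, and the twist is refuted by the
fusion of one odd involution.
-/

set_option autoImplicit false
set_option maxRecDepth 100000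

open Cfsg

namespace Cfsg.Agent.CoTwoUniq.Mono

open Cfsg.Agent.Leech (bitWord signCo0 permCo0 idx ptOf monGen LGen)

universe u

variable {G : Type u} [Group G] {z : G} (K : CentEmb z)

/-- A homomorphism inducing the action on the sign changes. -/
def Act (f : ↥MP →* G) : Prop :=
  ∀ σ, ∀ v ∈ avMasks, f σ * K.sg v * (f σ)⁻¹ = K.sg (mv σ v)

theorem sg_zero : K.sg 0 = 1 := by
  rw [K.sg_eq zero_av]
  exact (congrArg K.g (Subtype.ext sgn_zero)).trans (map_one K.g)

/-- Only the sign changes act trivially. -/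
theorem trivial_act {U : G} (h : ∀ v ∈ avMasks, U * K.sg v * U⁻¹ = K.sg v) :
    ∃ e ∈ avMasks, U = K.sg e := by
  have hz : U * z * U⁻¹ = z := by simpa only [K.sg_zm] using h _ zm_av
  have hU : U ∈ Subgroup.centralizer ({z} : Set G) :=
    Subgroup.mem_centralizer_singleton_iff.2 (mul_inv_eq_iff_eq_mul.1 hz)
  rw [← K.range_eq] at hU
  obtain ⟨⟨c, hc⟩, rfl⟩ := hU
  have hcv : ∀ v ∈ avMasks, c * sgn v * c⁻¹ = sgn v := fun v hv => by
    have e := h v hv
    rw [K.sg_eq hv, ← map_inv, ← map_mul, ← map_mul] at e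
    exact congrArg Subtype.val (K.inj e)
  have hdm : Data.dm ∈ avMasks := base_facts.2.1.1
  have hm : c ∈ monoK := comm_dm_mono (mul_inv_eq_iff_eq_mul.1 (hcv _ hdm))
  obtain ⟨e, he, σ, rfl⟩ := exists_decomp hm
  have hσ : σ = 1 := eq_one_of_mv fun v hv => by
    refine mv_unique σ hv hv ?_
    have h1 := hcv v hv
    have h2 : sgn e * sgn v * (sgn e)⁻¹ = sgn v := by
      rw [(sgn_comm (avMasks_spec e he) (avMasks_spec v hv)).eq, mul_inv_cancel_right]
    calc pHom σ * sgn v * (pHom σ)⁻¹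
        = (sgn e)⁻¹ * (sgn e * pHom σ * sgn v * (sgn e * pHom σ)⁻¹) * sgn e := by group
      _ = (sgn e)⁻¹ * sgn v * sgn e := by rw [h1]
      _ = (sgn e)⁻¹ * (sgn e * sgn v * (sgn e)⁻¹) * sgn e := by rw [h2]
      _ = sgn v := by group
  refine ⟨e, he, ?_⟩
  rw [K.sg_eq he]
  exact congrArg K.g (Subtype.ext (by simp [hσ]))

/-- The pairs of a permutation and an element inducing it. -/
def Pairs : Subgroup (↥MP × G) where
  carrier := {p | ∀ v ∈ avMasks, p.2 * K.sg v * p.2⁻¹ = K.sg (mv p.1 v)}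
  one_mem' := fun v hv => by simp [mv_one hv]
  mul_mem' := fun {a b} ha hb v hv => by
    rw [Prod.fst_mul, Prod.snd_mul, mv_mul _ _ hv, ← ha _ (mv_spec b.1 hv).1, ← hb v hv]
    group
  inv_mem' := fun {a} ha v hv => by
    have h := ha _ (mv_spec a.1⁻¹ hv).1
    rw [← mv_mul a.1 a.1⁻¹ hv, mul_inv_cancel, mv_one hv] at h
    show a.2⁻¹ * K.sg v * a.2⁻¹⁻¹ = K.sg (mv a.1⁻¹ v)
    rw [← h]
    group

theorem S16_card : S16.length = 77 ∧ S16.Nodup := by decide +kernel

/-- Gaschütz gives a lift of all permutations. -/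
theorem exists_act [Finite G] (hre : ∀ σ : ↥MP, σ ∈ Re K)
    (hgen : ∀ σ : ↥MP, ∃ w : List ℕ, σ = ev w) : ∃ f : ↥MP →* G, Act K f := by
  classical
  let π : ↥(Pairs K) →* ↥MP := (MonoidHom.fst _ _).comp (Pairs K).subtype
  have hπ : Function.Surjective π := fun σ => by
    obtain ⟨U, hU⟩ := hre σ
    exact ⟨⟨(σ, U), hU⟩, rfl⟩
  let Stz : Subgroup ↥MP :=
    { carrier := {σ | mv σ Data.zm = Data.zm}
      one_mem' := mv_one zm_av
      mul_mem' := fun {a b} (ha : mv a _ = _) (hb : mv b _ = _) => by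
        show mv (a * b) _ = _
        rw [mv_mul _ _ zm_av, hb, ha]
      inv_mem' := fun {a} (ha : mv a _ = _) => by
        show mv a⁻¹ _ = _
        conv_lhs => rw [← ha]
        rw [← mv_mul _ _ zm_av, inv_mul_cancel, mv_one zm_av] }
  have hidx : Stz.index = 77 := by
    have hz16 : pop Data.zm = 16 := by decide +kernel
    let F : ↥MP ⧸ Stz → {v // v ∈ S16.toFinset} := Quotient.lift
      (fun σ => ⟨mv σ Data.zm, List.mem_toFinset.2
        (mem_S16.2 ⟨(mv_spec σ zm_av).1, (mv_spec σ zm_av).2.1.trans hz16⟩)⟩) (by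
        intro a b hab
        have h := QuotientGroup.leftRel_apply.1 hab
        change mv (a⁻¹ * b) _ = _ at h
        refine Subtype.ext ?_
        show mv a Data.zm = mv b Data.zm
        conv_lhs => rw [← h, ← mv_mul _ _ zm_av, mul_inv_cancel_left])
    have hF : Function.Bijective F := by
      constructor
      · intro a b
        refine Quotient.inductionOn₂ a b fun a b (e : F ⟦a⟧ = F ⟦b⟧) => Quotient.sound ?_
        refine QuotientGroup.leftRel_apply.2 ?_
        have e' : mv a Data.zm = mv b Data.zm := congrArg Subtype.val e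
        show mv (a⁻¹ * b) _ = _
        rw [mv_mul _ _ zm_av, ← e', ← mv_mul _ _ zm_av, inv_mul_cancel, mv_one zm_av]
      · rintro ⟨v, hv⟩
        have hv' := List.mem_toFinset.1 hv
        obtain ⟨w, hw⟩ : ∃ w : List ℕ, evM w Data.zm = v := by
          rcases move_cover _ hv' with e | ⟨e, -, -, he⟩ | ⟨e, -, -, he⟩
          exacts [⟨[], e.symm⟩, ⟨_, he⟩, ⟨_, he⟩]
        exact ⟨⟦ev w⟧, Subtype.ext ((mv_ev w zm_av).trans hw)⟩
    rw [Subgroup.index_eq_card, Nat.card_congr (Equiv.ofBijective F hF), Nat.card_eq_fintype_card,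
      Fintype.card_coe, List.toFinset_card_of_nodup S16_card.2, S16_card.1]
  let U₀ : Subgroup ↥(Pairs K) := Stz.comap π
  let Kk : Subgroup ↥(Pairs K) := π.ker
  have hker : ∀ p : ↥(Pairs K), p ∈ Kk → ∃ e ∈ avMasks, p.1.2 = K.sg e := fun p hp =>
    trivial_act K fun v hv => by
      have h := p.2 v hv
      rwa [show p.1.1 = 1 from hp, mv_one hv] at h
  have hcomm : IsMulCommutative Kk := ⟨⟨fun a b => Subtype.ext (Subtype.ext (Prod.ext
    (by show a.1.1.1 * b.1.1.1 = b.1.1.1 * a.1.1.1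
        rw [show a.1.1.1 = 1 from a.2, show b.1.1.1 = 1 from b.2])
    (by obtain ⟨x, hx, ex⟩ := hker _ a.2
        obtain ⟨y, hy, ey⟩ := hker _ b.2
        show a.1.1.2 * b.1.1.2 = b.1.1.2 * a.1.1.2
        rw [ex, ey, ← K.sg_xor hx hy, ← K.sg_xor hy hx, Nat.xor_comm])))⟩⟩
  have hp2 : IsPGroup 2 Kk := fun a => ⟨1, Subtype.ext (Subtype.ext (Prod.ext
    (by show (a.1.1.1) ^ (2 ^ 1) = 1
        rw [show a.1.1.1 = 1 from a.2, one_pow])
    (by obtain ⟨x, hx, ex⟩ := hker _ a.2
        show (a.1.1.2) ^ (2 ^ 1) = 1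
        rw [ex, pow_one, sq, ← K.sg_xor hx hx, Nat.xor_self, sg_zero])))⟩
  have hcop : (Nat.card Kk).Coprime U₀.index := by
    haveI : Fact (Nat.Prime 2) := ⟨Nat.prime_two⟩
    obtain ⟨n, hn⟩ := IsPGroup.iff_card.1 hp2
    rw [hn, Subgroup.index_comap_of_surjective _ hπ, hidx]
    exact (Nat.Coprime.pow_left n (by decide))
  let gA : ↥Stz →* ↥(Pairs K) :=
    { toFun := fun σ => ⟨(σ.1, K.g ⟨pHom σ.1, pHom_mem_C1 σ.2⟩), fun v hv => by
        show K.g _ * K.sg v * (K.g _)⁻¹ = K.sg (mv σ.1 v)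
        rw [K.sg_eq hv, K.sg_eq (mv_spec σ.1 hv).1, ← map_inv, ← map_mul, ← map_mul]
        exact congrArg K.g (Subtype.ext (mv_spec σ.1 hv).2.2)⟩
      map_one' := Subtype.ext (Prod.ext rfl
        ((congrArg K.g (Subtype.ext (map_one pHom))).trans (map_one K.g)))
      map_mul' := fun a b => Subtype.ext (Prod.ext rfl
        ((congrArg K.g (Subtype.ext (map_mul pHom a.1 b.1))).trans (map_mul K.g
          ⟨pHom a.1, pHom_mem_C1 a.2⟩ ⟨pHom b.1, pHom_mem_C1 b.2⟩))) }
  have hAK : gA.range ⊓ Kk = ⊥ := by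
    rw [eq_bot_iff]
    rintro x ⟨⟨σ, rfl⟩, hx⟩
    have : σ = 1 := Subtype.ext hx
    rw [this, map_one]
    exact one_mem _
  have hAU : gA.range ≤ U₀ := by
    rintro x ⟨σ, rfl⟩
    exact σ.2
  have hKA : Kk ⊔ gA.range = U₀ := by
    refine le_antisymm (sup_le (fun x (hx : π x = 1) => show π x ∈ Stz by rw [hx]; exact one_mem _) hAU)
      fun x hx => ?_
    have hk : x * (gA ⟨π x, hx⟩)⁻¹ ∈ Kk := by
      show π (x * _) = 1
      rw [map_mul, map_inv]
      exact mul_inv_cancel (π x)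
    simpa using mul_mem (Subgroup.mem_sup_left hk)
      (Subgroup.mem_sup_right (⟨⟨π x, hx⟩, rfl⟩ : gA ⟨π x, hx⟩ ∈ gA.range) : gA ⟨π x, hx⟩ ∈ Kk ⊔ gA.range)
  obtain ⟨H, hH⟩ := Core.gaschutz_exists (K := Kk) (U := U₀)
    (fun x (hx : π x = 1) => show π x ∈ Stz by rw [hx]; exact one_mem _) hcop hAU hAK hKA
  have hinj : Function.Injective (π.comp H.subtype) := by
    rw [injective_iff_map_eq_one]
    intro x hx
    exact Subtype.ext (Subgroup.disjoint_def.1 hH.disjoint hx x.2)
  have hsur : Function.Surjective (π.comp H.subtype) := fun σ => by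
    obtain ⟨p, rfl⟩ := hπ σ
    obtain ⟨⟨k, h⟩, rfl⟩ := hH.2 p
    exact ⟨h, by
      show π h.1 = π (k.1 * h.1)
      rw [map_mul, show π k.1 = 1 from k.2, one_mul]⟩
  let e : ↥H ≃* ↥MP := MulEquiv.ofBijective _ ⟨hinj, hsur⟩
  refine ⟨((MonoidHom.snd _ _).comp ((Pairs K).subtype.comp H.subtype)).comp e.symm.toMonoidHom,
    fun σ v hv => ?_⟩
  have h1 : (e.symm σ).1.1.1 = σ := e.apply_symm_apply σ
  have h2 := (e.symm σ).1.2 v hv
  rw [h1] at h2
  exact h2

/-! ### Shifting a lift by a sign change -/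

/-- The word of the shift. -/
def dlW (c : Word) (σ : Equiv.Perm GolayPt) : Word :=
  fun p => c p + c (σ⁻¹ p) + (c none + c (σ⁻¹ none))

/-- The mask of the shift at a generator. -/
def dlMask (P : List ℕ) (c : ℕ) : ℕ :=
  (c ^^^ pmask P c) ^^^ (if c.testBit 0 == c.testBit (P.getD 0 0) then 0 else 2 ^ 24 - 1)

theorem exists_dl {c : Word} (hc : c ∈ golayCode) (σ : ↥MP) :
    ∃ n ∈ avMasks, bitWord n = dlW c σ.1 := by
  have hs := MP.inv_mem σ.2
  have hd : dlW c σ.1 ∈ golayCode := by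
    have h1 := add_mem (add_mem hc (Leech.comp_mem_of_M24 hs.1 hc))
      (golayCode.smul_mem (c none + c (σ.1⁻¹ none)) Leech.one_mem)
    convert h1 using 1
    funext p
    simp [dlW, Function.comp]
  have hu : ∀ p, Spor.vecU p = 4 → dlW c σ.1 p = 0 := by
    intro p hp
    have hc2 : ∀ a b : ZMod 2, a + b + (a + b) = 0 ∧ a + b + (b + a) = 0 := by decide
    have hne : σ.1⁻¹ none ≠ σ.1⁻¹ (some 0) := fun e => by cases (σ.1⁻¹).injective e
    have hn := vecU_cases (σ.1⁻¹ none)
    have h0 := vecU_cases (σ.1⁻¹ (some 0))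
    have hp' : p = none ∨ p = some 0 := by
      rcases vecU_cases p with ⟨-, h⟩ | h
      · exact h
      · rw [hp] at h; norm_num at h
    have e4 : ∀ q, Spor.vecU (σ.1⁻¹ q) = Spor.vecU q := hs.2
    rw [e4] at hn h0
    simp only [show Spor.vecU none = 4 from rfl, show Spor.vecU (some 0) = 4 from rfl, true_and,
      show ((4 : ℤ) = 0) = False by simp, or_false] at hn h0
    rcases hp' with rfl | rfl
    · exact (hc2 _ _).1
    · show c (some 0) + c (σ.1⁻¹ (some 0)) + (c none + c (σ.1⁻¹ none)) = 0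
      rcases hn with e1 | e1 <;> rcases h0 with e2 | e2
      · exact absurd (e1.trans e2.symm) hne
      · rw [e1, e2, CharTwo.add_self_eq_zero, CharTwo.add_self_eq_zero, add_zero]
      · rw [e1, e2]; exact (hc2 _ _).2
      · exact absurd (e1.trans e2.symm) hne
  obtain ⟨n, hn, hne, -⟩ := exists_sgn (mk (signCo0 _ hd)
    (signCo0_fix hd (hu none rfl) (hu (some 0) rfl))) (c := dlW c σ.1) (hc := hd) rfl
  exact ⟨n, hn, hne⟩

/-- Shifted lifts. -/
theorem exists_shift {f : ↥MP →* G} (hf : Act K f) {c : ℕ} (hc : c ∈ Leech.allMasks) :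
    ∃ f' : ↥MP →* G, Act K f' ∧ ∀ k, f' (gen k) = K.sg (dlMask (genP k) c) * f (gen k) := by
  choose d hd hdw using exists_dl (allMasks_mem c hc)
  have hcoc : ∀ σ τ, d (σ * τ) = d σ ^^^ mv σ (d τ) := fun σ τ => by
    refine eq_of_bitWord (av_lt _ (hd _)) (Nat.xor_lt_two_pow (av_lt _ (hd σ))
      (av_lt _ (mv_spec σ (hd τ)).1)) ?_
    rw [Leech.bitWord_xor, bitWord_mv σ (hd τ), hdw, hdw, hdw]
    funext p
    simp only [dlW, Pi.add_apply, Subgroup.coe_mul, mul_inv_rev, Equiv.Perm.mul_apply]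
    have hτ := MP.inv_mem τ.2
    have hσn := vecU_cases (σ.1⁻¹ none)
    rw [(MP.inv_mem σ.2).2, show Spor.vecU none = 4 from rfl] at hσn
    simp only [true_and, show ((4 : ℤ) = 0) = False by simp, or_false] at hσn
    rcases hσn with e | e <;> rw [e]
    · rw [show ∀ a b c d g : ZMod 2, a + b + (c + c) + (b + d + (c + g)) = a + d + (c + g) from by decide]
    · have hn := vecU_cases (τ.1⁻¹ none)
      have h0 := vecU_cases (τ.1⁻¹ (some 0))
      rw [hτ.2] at hn h0
      simp only [show Spor.vecU none = 4 from rfl, show Spor.vecU (some 0) = 4 from rfl, true_and,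
        show ((4 : ℤ) = 0) = False by simp, or_false] at hn h0
      have hne : τ.1⁻¹ none ≠ τ.1⁻¹ (some 0) := fun e => by cases (τ.1⁻¹).injective e
      generalize bitWord c p = a, bitWord c (τ.1⁻¹ (σ.1⁻¹ p)) = b, bitWord c (σ.1⁻¹ p) = m
      rcases hn with e1 | e1 <;> rcases h0 with e2 | e2
      · exact absurd (e1.trans e2.symm) hne
      · rw [e1, e2]
        generalize bitWord c none = x, bitWord c (some 0) = y
        revert a b m x y
        decide
      · rw [e1, e2]
        generalize bitWord c none = x, bitWord c (some 0) = y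
        revert a b m x y
        decide
      · exact absurd (e1.trans e2.symm) hne
  have hone : d 1 = 0 := by
    have h := hcoc 1 1
    rw [one_mul, mv_one (hd 1), Nat.xor_self] at h
    exact h
  refine ⟨MonoidHom.mk' (fun σ => K.sg (d σ) * f σ) fun σ τ => ?_, fun σ v hv => ?_, fun k => ?_⟩
  · rw [hcoc, K.sg_xor (hd σ) (mv_spec σ (hd τ)).1, ← hf σ _ (hd τ), map_mul]
    group
  · show K.sg (d σ) * f σ * K.sg v * (K.sg (d σ) * f σ)⁻¹ = _
    rw [show K.sg (d σ) * f σ * K.sg v * (K.sg (d σ) * f σ)⁻¹ =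
      K.sg (d σ) * (f σ * K.sg v * (f σ)⁻¹) * (K.sg (d σ))⁻¹ by group, hf σ v hv,
      ← K.sg_xor (hd σ) (mv_spec σ hv).1, Nat.xor_comm, K.sg_xor (mv_spec σ hv).1 (hd σ),
      mul_inv_cancel_right]
  · show K.sg (d (gen k)) * f (gen k) = _
    congr 2
    refine eq_of_bitWord (av_lt _ (hd _)) ?_ ?_
    · refine Nat.xor_lt_two_pow (Nat.xor_lt_two_pow ?_ (pmask_lt _ _)) ?_
      · have h : (Leech.allMasks.all fun m => decide (m < 2 ^ 24)) = true := by decide +kernel
        exact of_decide_eq_true (List.all_eq_true.1 h c hc)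
      · split_ifs <;> norm_num
    · have key : ∀ (P Q : List ℕ) (h : PermOK P Q) (_ : ∀ i < 24, P.getD i 0 < 24),
          dlW (bitWord c) (perm h) = bitWord (dlMask P c) := fun P Q h hP => by
        rw [dlMask, Leech.bitWord_xor, Leech.bitWord_xor, bitWord_pmask h hP c]
        funext p
        have h0 : bitWord c ((perm h)⁻¹ none) = if c.testBit (P.getD 0 0) then 1 else 0 := by
          show (if c.testBit (idx (ptOf (P.getD (idx none) 0))) then (1 : ZMod 2) else 0) = _
          rw [show idx none = 0 from rfl, Leech.idx_ptOf _ (hP 0 (by norm_num))]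
        have h1 : ∀ q, bitWord 16777215 q = 1 := by decide +kernel
        simp only [dlW, Pi.add_apply, h0, bitWord_none]
        cases c.testBit 0 <;> cases c.testBit (P.getD 0 0) <;>
          simp [h1, Leech.bitWord_zero, CharTwo.add_self_eq_zero]
      obtain ⟨hA, hB, hU, hA', hB', hU'⟩ := gens_ok
      rw [hdw]
      match k with
      | 0 => exact key _ _ hA hA'
      | 1 => exact key _ _ hB hB'
      | _ + 2 => exact key _ _ hU hU'

end Cfsg.Agent.CoTwoUniq.Mono
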