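import Cfsg.Agent.CoTwoUniq.Mono.Derive

/-!
The homomorphism of the monomial group from a lift of the coordinate permutations.
-/

set_option autoImplicit false
set_option maxRecDepth 100000

open Cfsg

namespace Cfsg.Agent.CoTwoUniq.Mono

open Cfsg.Agent.Leech (bitWord signCo0 permCo0)

/-- The elements of the monomial group are monomial. -/
theorem N1_le_monoK : N1 ≤ monoK := by
  refine sup_le ((Subgroup.closure_le _).2 ?_) ((Subgroup.closure_le _).2 ?_)
  · rintro x ⟨c, hc, hx⟩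
    exact ⟨1, one_mem _, c, hc, by
      rw [show inc x = signCo0 c hc from Subtype.ext hx]
      refine Leech.ext_of_oct fun i => Subtype.ext (funext fun q => ?_)
      rw [mul_smul, Leech.signCo0_apply, Leech.signCo0_apply]
      simp only [Leech.negOn, Leech.permCo0_apply, inv_one, Equiv.Perm.one_apply]⟩
  · rintro x ⟨σ, hσ, hx⟩
    exact ⟨σ, hσ, 0, zero_mem _, by
      rw [show inc x = permCo0 σ hσ from Subtype.ext hx, Leech.signCo0_zero, one_mul]⟩

theorem decomp_N1 (x : ↥N1) : ∃ n ∈ avMasks, ∃ σ : ↥MP, (x : K2) = sgn n * pHom σ :=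
  exists_decomp (N1_le_monoK x.2)

/-- A permutation equal to a sign change is trivial. -/
theorem pHom_eq_sgn {σ : ↥MP} {k : ℕ} (hk : k ∈ avMasks) (h : pHom σ = sgn k) : σ = 1 ∧ k = 0 := by
  have hσ : σ = 1 := eq_one_of_mv fun v hv => mv_unique σ hv hv (by
    rw [h, (sgn_comm (avMasks_spec k hk) (avMasks_spec v hv)).eq, mul_inv_cancel_right])
  subst hσ
  rw [map_one, ← sgn_zero] at h
  exact ⟨rfl, (sgn_inj zero_av hk h).symm⟩

theorem decomp_unique {m n : ℕ} (hm : m ∈ avMasks) (hn : n ∈ avMasks) {σ τ : ↥MP}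
    (h : sgn m * pHom σ = sgn n * pHom τ) : m = n ∧ σ = τ := by
  have e : pHom (σ * τ⁻¹) = sgn (m ^^^ n) := by
    rw [map_mul, map_inv, sgn_xor (avMasks_spec m hm) (avMasks_spec n hn),
      show pHom σ = (sgn m)⁻¹ * (sgn n * pHom τ) by rw [← h]; group,
      inv_eq_of_mul_eq_one_right (sgn_mul_self (avMasks_spec m hm))]
    group
  obtain ⟨h1, h2⟩ := pHom_eq_sgn (xor_av hm hn) e
  refine ⟨?_, mul_inv_eq_one.1 h1⟩
  have := congrArg (fun k => k ^^^ n) h2
  simpa [Nat.xor_assoc] using this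

theorem mul_decomp {m n : ℕ} (hm : m ∈ avMasks) (hn : n ∈ avMasks) (σ τ : ↥MP) :
    sgn m * pHom σ * (sgn n * pHom τ) = sgn (m ^^^ mv σ n) * pHom (σ * τ) := by
  rw [map_mul, sgn_xor (avMasks_spec m hm) (avMasks_spec _ (mv_spec σ hn).1), ← (mv_spec σ hn).2.2]
  group

universe u

variable {G : Type u} [Group G] {z : G} (K : CentEmb z)

/-- The lift extends to the monomial group, agreeing with the embedding. -/
theorem exists_hom {f : ↥MP →* G} (hf : Act K f)
    (hfix : ∀ (σ : ↥MP) (h : mv σ Data.zm = Data.zm), K.g ⟨pHom σ, pHom_mem_C1 h⟩ = f σ) :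
    ∃ F : ↥N1 →* G, Function.Injective F ∧ Agree F K.g ∧
      ∀ (x : ↥N1) (n : ℕ), n ∈ avMasks → ∀ σ : ↥MP, (x : K2) = sgn n * pHom σ → F x = K.sg n * f σ := by
  choose m hm σ hσ using decomp_N1
  let F₀ : ↥N1 → G := fun x => K.sg (m x) * f (σ x)
  have hF : ∀ (x : ↥N1) (n : ℕ), n ∈ avMasks → ∀ τ : ↥MP, (x : K2) = sgn n * pHom τ →
      F₀ x = K.sg n * f τ := fun x n hn τ e => by
    obtain ⟨e1, e2⟩ := decomp_unique (hm x) hn ((hσ x).symm.trans e)
    show K.sg (m x) * f (σ x) = _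
    rw [e1, e2]
  let F : ↥N1 →* G := MonoidHom.mk' F₀ fun a b => by
    rw [hF (a * b) (m a ^^^ mv (σ a) (m b)) (xor_av (hm a) (mv_spec _ (hm b)).1) (σ a * σ b)
      (by rw [Subgroup.coe_mul, hσ a, hσ b, mul_decomp (hm a) (hm b)])]
    show _ = K.sg (m a) * f (σ a) * (K.sg (m b) * f (σ b))
    rw [K.sg_xor (hm a) (mv_spec _ (hm b)).1, ← hf _ _ (hm b), map_mul]
    group
  refine ⟨F, ?_, ?_, hF⟩
  · rw [injective_iff_map_eq_one]
    intro x hx
    change K.sg (m x) * f (σ x) = 1 at hx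
    have hfσ : f (σ x) = (K.sg (m x))⁻¹ := eq_inv_of_mul_eq_one_right hx
    have h1 : σ x = 1 := eq_one_of_mv fun v hv => by
      refine (K.sg_inj hv (mv_spec _ hv).1 ?_).symm
      rw [← hf _ v hv, hfσ, inv_inv, mul_assoc, ← K.sg_xor hv (hm x), Nat.xor_comm,
        K.sg_xor (hm x) hv, inv_mul_cancel_left]
    have h2 : m x = 0 := K.sg_inj (hm x) zero_av (by
      rw [h1, map_one, mul_one] at hx
      rw [hx, sg_zero])
    refine Subtype.ext ?_
    rw [hσ x, h1, h2, sgn_zero, map_one, mul_one]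
    rfl
  · intro x h1 h2
    show F₀ ⟨x, h1⟩ = _
    obtain ⟨n, hn, τ, e⟩ := decomp_N1 ⟨x, h1⟩
    change x = _ at e
    rw [hF ⟨x, h1⟩ n hn τ e]
    have hτ : mv τ Data.zm = Data.zm := by
      refine mv_unique τ zm_av zm_av ?_
      have hc : pHom τ ∈ C1 := by
        rw [show pHom τ = (sgn n)⁻¹ * x by rw [e]; group]
        exact mul_mem (inv_mem (sgn_mem_C1 hn)) h2
      have e' := Subgroup.mem_centralizer_singleton_iff.1 hc
      rw [sgn_zm]
      exact mul_inv_eq_iff_eq_mul.2 e'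
    rw [← hfix τ hτ, K.sg_eq hn, ← map_mul]
    exact congrArg K.g (Subtype.ext e.symm)

end Cfsg.Agent.CoTwoUniq.Mono
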