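import Cfsg.Agent.CoTwoUniq.Mono.Perm

/-!
Linear maps of the masks preserving the sixteen-words and fixing the marked word are given by
words in the first two generators.

The levels run through a basis of sixteen-words; at each level the words with the same pattern
against the fixed subspace form one orbit of the stabiliser.
-/

set_option autoImplicit false
set_option maxRecDepth 100000

open Cfsg

namespace Cfsg.Agent.CoTwoUniq.Mono

/-- The masks of the conjugates of the marked involution. -/
def S16 : List ℕ := avMasks.filter fun n => pop n == 16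

/-- Their set. -/
def key16 : ℕ := keySet S16

/-- A fast membership test. -/
def is16 (n : ℕ) : Bool := key16.testBit (n % 4096)

theorem is16_eq {n : ℕ} (hn : n ∈ avMasks) : is16 n = (pop n == 16) := by
  have h : (avMasks.all fun m => is16 m == (pop m == 16)) = true := by decide +kernel
  exact beq_iff_eq.1 (List.all_eq_true.1 h n hn)

theorem mem_S16 {n : ℕ} : n ∈ S16 ↔ n ∈ avMasks ∧ pop n = 16 := by
  rw [S16, List.mem_filter, beq_iff_eq]

/-- The number of sixteen-words moved into sixteen-words by translation by two given ones. -/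
def cnt (c : ℕ) : ℕ := (S16.filter fun u => is16 (u ^^^ Data.zm ^^^ c)).length

/-- A linear map of the masks preserving the weight sixteen and fixing the marked word. -/
structure Lin (L : ℕ → ℕ) : Prop where
  mem : ∀ n ∈ avMasks, L n ∈ avMasks
  xor : ∀ m ∈ avMasks, ∀ n ∈ avMasks, L (m ^^^ n) = L m ^^^ L n
  inj : ∀ m ∈ avMasks, ∀ n ∈ avMasks, L m = L n → m = n
  pop16 : ∀ n ∈ avMasks, (pop (L n) = 16 ↔ pop n = 16)
  fix : L Data.zm = Data.zm

theorem Lin.is16 {L : ℕ → ℕ} (hL : Lin L) {n : ℕ} (hn : n ∈ avMasks) : is16 (L n) = is16 n := by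
  rw [is16_eq hn, is16_eq (hL.mem n hn)]
  have := hL.pop16 n hn
  by_cases h : pop n = 16 <;> simp [h, this]

theorem Lin.cnt {L : ℕ → ℕ} (hL : Lin L) {c : ℕ} (hc : c ∈ avMasks) :
    Mono.cnt (L c) = Mono.cnt c := by
  classical
  have nd : S16.Nodup := by decide +kernel
  have hbij : (S16.map L).toFinset = S16.toFinset := by
    refine Finset.eq_of_subset_of_card_le (fun x hx => ?_) ?_
    · obtain ⟨u, hu, rfl⟩ := List.mem_map.1 (List.mem_toFinset.1 hx)
      exact List.mem_toFinset.2 (mem_S16.2 ⟨hL.mem u (mem_S16.1 hu).1,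
        (hL.pop16 u (mem_S16.1 hu).1).2 (mem_S16.1 hu).2⟩)
    · rw [List.toFinset_card_of_nodup nd, List.toFinset_card_of_nodup
        (nd.map_on fun a ha b hb => hL.inj a (mem_S16.1 ha).1 b (mem_S16.1 hb).1), List.length_map]
  have e : ∀ u ∈ S16, Mono.is16 (L u ^^^ Data.zm ^^^ L c) = Mono.is16 (u ^^^ Data.zm ^^^ c) :=
    fun u hu => by
      have hu' := (mem_S16.1 hu).1
      rw [← hL.is16 (xor_av (xor_av hu' zm_av) hc), hL.xor _ (xor_av hu' zm_av) _ hc,
        hL.xor _ hu' _ zm_av, hL.fix]
  have hp : List.Perm (S16.map L) S16 := List.perm_of_nodup_nodup_toFinset_eq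
    (nd.map_on fun a ha b hb => hL.inj a (mem_S16.1 ha).1 b (mem_S16.1 hb).1) nd hbij
  rw [Mono.cnt, Mono.cnt, ← (hp.filter _).length_eq, List.filter_map, List.length_map]
  exact congrArg List.length (List.filter_congr fun u hu => e u hu)

/-- Candidates with the pattern of the basis word. -/
def sameShape (sub : List ℕ) (b c : ℕ) : Bool :=
  !sub.elem c && sub.all (fun s => is16 (s ^^^ c) == is16 (s ^^^ b)) && (cnt c == cnt b)

/-- The check of one level. -/
def levelB (sub : List ℕ) (b : ℕ) (tr : List (ℕ × List ℕ)) : Bool :=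
  avMasks.elem b && is16 b && !sub.elem b &&
    (S16.all fun c => !sameShape sub b c || (tr.map Prod.fst).elem c) &&
    tr.all fun e => e.2.all (fun k => decide (k < 2)) && evM e.2 b == e.1 &&
      sub.all fun s => evM e.2 s == s

/-- All levels, ending with all masks. -/
def levelsB : List ℕ → List (ℕ × List (ℕ × List ℕ)) → Bool
  | sub, [] => avMasks.all fun n => sub.elem n
  | sub, (b, tr) :: t => levelB sub b tr && levelsB (sub ++ sub.map (· ^^^ b)) t

theorem levels_ok : levelsB [0, Data.zm] Data.levels = true := by decide +kernel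

theorem evM_zm : ∀ k < 2, pmask (genP k) Data.zm = Data.zm := by decide +kernel

theorem evM_zm_word : ∀ w : List ℕ, (∀ k ∈ w, k < 2) → evM w Data.zm = Data.zm
  | [], _ => rfl
  | k :: w, h => by
    show pmask (genP k) (evM w Data.zm) = _
    rw [evM_zm_word w fun j hj => h j (List.mem_cons_of_mem _ hj), evM_zm k (h k List.mem_cons_self)]

theorem exists_word_aux : ∀ (lv : List (ℕ × List (ℕ × List ℕ))) (sub : List ℕ),
    levelsB sub lv = true → Data.zm ∈ sub → (∀ s ∈ sub, s ∈ avMasks) →
    ∀ L : ℕ → ℕ, Lin L → (∀ s ∈ sub, L s = s) →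
      ∃ w : List ℕ, (∀ k ∈ w, k < 2) ∧ ∀ n ∈ avMasks, L n = evM w n
  | [], sub, h, _, _, L, _, hfix => by
    refine ⟨[], by simp, fun n hn => hfix n ?_⟩
    exact List.elem_iff.1 (List.all_eq_true.1 h n hn)
  | (b, tr) :: t, sub, h, hz, hsub, L, hL, hfix => by
    simp only [levelsB, levelB, Bool.and_eq_true, Bool.not_eq_true', List.elem_iff,
      List.all_eq_true, beq_iff_eq, decide_eq_true_eq] at h
    obtain ⟨⟨⟨⟨⟨hb, hb16⟩, hbs⟩, hcand⟩, htr⟩, hrest⟩ := h
    have hbs' : b ∉ sub := fun hm => by
      have := List.elem_iff.2 hm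
      rw [hbs] at this
      exact Bool.false_ne_true this
    have hc16 : L b ∈ S16 := mem_S16.2 ⟨hL.mem b hb, (hL.pop16 b hb).2 (by
      have := is16_eq hb
      rw [hb16] at this
      simpa using this.symm)⟩
    have hshape : sameShape sub b (L b) = true := by
      simp only [sameShape, Bool.and_eq_true, Bool.not_eq_true', List.all_eq_true, beq_iff_eq]
      refine ⟨⟨?_, fun s hs => ?_⟩, hL.cnt hb⟩
      · rw [Bool.eq_false_iff]
        intro hm
        refine hbs' ?_
        have hm' := List.elem_iff.1 hm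
        rwa [← hL.inj (L b) (hL.mem b hb) b hb (hfix _ hm')]
      · rw [← hL.is16 (xor_av (hsub s hs) hb), hL.xor s (hsub s hs) b hb, hfix s hs]
    have hmem : L b ∈ tr.map Prod.fst := by
      rcases Bool.or_eq_true_iff.1 (hcand _ hc16) with e | e
      · rw [hshape] at e; cases e
      · exact List.elem_iff.1 e
    obtain ⟨⟨c, w⟩, he, hce⟩ := List.mem_map.1 hmem
    obtain ⟨⟨hw2, hwb⟩, hws⟩ := htr _ he
    dsimp only at hw2 hwb hws hce
    have hinv : ∀ n, n ∈ avMasks → evM w (mv (ev w)⁻¹ n) = n := fun n hn => by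
      rw [← mv_ev w (mv_spec _ hn).1, ← mv_mul _ _ hn, mul_inv_cancel, mv_one hn]
    have hinv' : ∀ n, n ∈ avMasks → mv (ev w)⁻¹ (evM w n) = n := fun n hn => by
      rw [← mv_ev w hn, ← mv_mul _ _ hn, inv_mul_cancel, mv_one hn]
    obtain ⟨v, hv2, hv⟩ := exists_word_aux t (sub ++ sub.map (· ^^^ b)) hrest
      (List.mem_append_left _ hz)
      (fun s hs => by
        rcases List.mem_append.1 hs with hs | hs
        · exact hsub s hs
        · obtain ⟨a, ha, rfl⟩ := List.mem_map.1 hs
          exact xor_av (hsub a ha) hb)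
      (fun n => mv (ev w)⁻¹ (L n))
      { mem := fun n hn => (mv_spec _ (hL.mem n hn)).1
        xor := fun m hm n hn => by rw [hL.xor m hm n hn, mv_xor _ (hL.mem m hm) (hL.mem n hn)]
        inj := fun m hm n hn e => hL.inj m hm n hn (by
          have := congrArg (evM w) e
          rwa [hinv _ (hL.mem m hm), hinv _ (hL.mem n hn)] at this)
        pop16 := fun n hn => by rw [(mv_spec _ (hL.mem n hn)).2.1, hL.pop16 n hn]
        fix := by
          rw [hL.fix]
          conv_lhs => rw [← evM_zm_word w hw2]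
          exact hinv' _ zm_av }
      (fun s hs => by
        have hs' : ∀ a ∈ sub, mv (ev w)⁻¹ (L a) = a := fun a ha => by
          rw [hfix a ha]
          conv_lhs => rw [← hws a ha]
          exact hinv' a (hsub a ha)
        have hb' : mv (ev w)⁻¹ (L b) = b := by
          rw [← hce, ← hwb]; exact hinv' b hb
        rcases List.mem_append.1 hs with hs | hs
        · exact hs' s hs
        · obtain ⟨a, ha, rfl⟩ := List.mem_map.1 hs
          rw [hL.xor a (hsub a ha) b hb, mv_xor _ (hL.mem a (hsub a ha)) (hL.mem b hb), hs' a ha, hb'])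
    refine ⟨w ++ v, fun k hk => (List.mem_append.1 hk).elim (hw2 k) (hv2 k), fun n hn => ?_⟩
    rw [evM, List.foldr_append]
    show L n = evM w (evM v n)
    rw [← hv n hn, hinv _ (hL.mem n hn)]

/-- A linear map preserving the weight sixteen and fixing the marked word is given by a word. -/
theorem exists_word {L : ℕ → ℕ} (hL : Lin L) :
    ∃ w : List ℕ, (∀ k ∈ w, k < 2) ∧ ∀ n ∈ avMasks, L n = evM w n := by
  refine exists_word_aux _ _ levels_ok (by simp) ?_ L hL ?_
  · intro s hs
    simp only [List.mem_cons, List.not_mem_nil, or_false] at hs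
    rcases hs with rfl | rfl
    exacts [zero_av, zm_av]
  · intro s hs
    simp only [List.mem_cons, List.not_mem_nil, or_false] at hs
    rcases hs with rfl | rfl
    · have e := hL.xor 0 zero_av 0 zero_av
      rwa [Nat.xor_self, Nat.xor_self] at e
    · exact hL.fix

end Cfsg.Agent.CoTwoUniq.Mono
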