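import Cfsg.Agent.CoTwoUniq.Mono.Mover
import Cfsg.Agent.CoTwoUniq.Mono.Stab
import Cfsg.Agent.CoTwoUniq.Final

/-!
Every coordinate permutation of the model is induced on the image of the sign changes.
-/

set_option autoImplicit false
set_option maxRecDepth 100000

open Cfsg

namespace Cfsg.Agent.CoTwoUniq

universe u

variable {G : Type u} [Group G] {z : G}

/-- All sixteen-weight sign changes are conjugate to the involution in the group. -/
def CentEmb.HasFull (K : CentEmb z) : Prop :=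
  ∀ v ∈ avMasks, pop v = 16 → IsConj (K.sg v) z

namespace CentEmb

variable (K : CentEmb z)

theorem sg_eq {n : ℕ} (hn : n ∈ avMasks) : K.sg n = K.g ⟨sgn n, sgn_mem_C1 hn⟩ := by
  classical rw [CentEmb.sg, dif_pos (sgn_mem_C1 hn)]

theorem sg_inj {m n : ℕ} (hm : m ∈ avMasks) (hn : n ∈ avMasks) (h : K.sg m = K.sg n) : m = n := by
  rw [K.sg_eq hm, K.sg_eq hn] at h
  exact Mono.sgn_inj hm hn (congrArg Subtype.val (K.inj h))

theorem sg_xor {m n : ℕ} (hm : m ∈ avMasks) (hn : n ∈ avMasks) :
    K.sg (m ^^^ n) = K.sg m * K.sg n := by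
  rw [K.sg_eq (Mono.xor_av hm hn), K.sg_eq hm, K.sg_eq hn, ← map_mul]
  exact congrArg K.g (Subtype.ext (sgn_xor (avMasks_spec m hm) (avMasks_spec n hn)))

theorem sg_zm : K.sg Data.zm = z := by
  rw [K.sg_eq Mono.zm_av]
  refine Eq.trans (congrArg K.g (Subtype.ext ?_)) K.map_z
  exact sgn_zm

end CentEmb

namespace Mono

variable (K : CentEmb z)

/-- The permutations induced by elements of the group. -/
def Re : Subgroup ↥MP where
  carrier := {σ | ∃ U : G, ∀ v ∈ avMasks, U * K.sg v * U⁻¹ = K.sg (mv σ v)}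
  one_mem' := ⟨1, fun v hv => by rw [mv_one hv]; group⟩
  mul_mem' := fun {a b} ⟨U, hU⟩ ⟨W, hW⟩ => ⟨U * W, fun v hv => by
    rw [mv_mul a b hv, ← hU _ (mv_spec b hv).1, ← hW v hv]
    group⟩
  inv_mem' := fun {a} ⟨U, hU⟩ => ⟨U⁻¹, fun v hv => by
    have h := hU _ (mv_spec a⁻¹ hv).1
    rw [← mv_mul a a⁻¹ hv, mul_inv_cancel, mv_one hv] at h
    rw [← h]
    group⟩

/-- A permutation fixing the marked word centralises the marked involution. -/
theorem pHom_mem_C1 {σ : ↥MP} (h : mv σ Data.zm = Data.zm) : pHom σ ∈ C1 := by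
  have e := (mv_spec σ zm_av).2.2
  rw [h, sgn_zm, mul_inv_eq_iff_eq_mul] at e
  exact Subgroup.mem_centralizer_singleton_iff.2 e

theorem re_of_fix {σ : ↥MP} (h : mv σ Data.zm = Data.zm) : σ ∈ Re K := by
  refine ⟨K.g ⟨pHom σ, pHom_mem_C1 h⟩, fun v hv => ?_⟩
  rw [K.sg_eq hv, K.sg_eq (mv_spec σ hv).1, ← map_inv, ← map_mul, ← map_mul]
  exact congrArg K.g (Subtype.ext (mv_spec σ hv).2.2)

theorem ev_fix {w : List ℕ} (h : ∀ k ∈ w, k < 2) : mv (ev w) Data.zm = Data.zm := by
  rw [mv_ev w zm_av, evM_zm_word w h]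

/-- A permutation fixing the marked word is a word in two generators. -/
theorem exists_ev_fix {σ : ↥MP} (h : mv σ Data.zm = Data.zm) :
    ∃ w : List ℕ, (∀ k ∈ w, k < 2) ∧ σ = ev w := by
  obtain ⟨w, hw, hwe⟩ := exists_word (L := mv σ)
    { mem := fun n hn => (mv_spec σ hn).1
      xor := fun m hm n hn => mv_xor σ hm hn
      inj := fun m hm n hn e => by
        have := congrArg (mv σ⁻¹) e
        rwa [← mv_mul _ _ hm, ← mv_mul _ _ hn, inv_mul_cancel, mv_one hm, mv_one hn] at this
      pop16 := fun n hn => by rw [(mv_spec σ hn).2.1]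
      fix := h }
  refine ⟨w, hw, ?_⟩
  have : (ev w)⁻¹ * σ = 1 := eq_one_of_mv fun n hn => by
    rw [mv_mul _ _ hn, hwe n hn, ← mv_ev w hn, ← mv_mul _ _ hn, inv_mul_cancel, mv_one hn]
  exact (inv_mul_eq_one.1 this).symm

/-- The word moving the marked word to a given sixteen-word. -/
theorem move_cover : ∀ v ∈ S16, v = Data.zm ∨
    (∃ e ∈ Data.tr60, e.2.all (fun k => decide (k < 2)) = true ∧ evM (e.2 ++ [2]) Data.zm = v) ∨
    ∃ e ∈ Data.tr16, e.2.all (fun k => decide (k < 2)) = true ∧ evM (e.2 ++ Data.m0) Data.zm = v := by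
  have h : (S16.all fun v => v == Data.zm ||
      (Data.tr60.any fun e => e.2.all (fun k => decide (k < 2)) && (evM (e.2 ++ [2]) Data.zm == v)) ||
      (Data.tr16.any fun e => e.2.all (fun k => decide (k < 2)) && (evM (e.2 ++ Data.m0) Data.zm == v)))
      = true := by decide +kernel
  intro v hv
  have := List.all_eq_true.1 h v hv
  simp only [Bool.or_eq_true, beq_iff_eq, List.any_eq_true, Bool.and_eq_true] at this
  exact or_assoc.1 this

/-- The word in two generators and the second mover taking the marked word where the third generator does. -/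
theorem toU_ok : ((Data.toU.map fun k => if k = 2 then Data.m0 else [k]).flatten.all fun k =>
    decide (k < 3)) = true ∧
    evM (Data.toU.map fun k => if k = 2 then Data.m0 else [k]).flatten Data.zm = evM [2] Data.zm ∧
    Data.toU.all (fun k => decide (k < 3)) = true := by decide +kernel

/-- All permutations are induced. -/
theorem re_top (hF : K.HasFusion) (hfull : K.HasFull) (hn : K.HasMover) :
    (∀ σ : ↥MP, σ ∈ Re K) ∧ ∀ σ : ↥MP, ∃ w : List ℕ, σ = ev w := by
  classical
  obtain ⟨n, hn, hnz⟩ := hn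
  choose! L hLm hLe using hn
  have h16 : ∀ v ∈ avMasks, IsConj (K.sg v) z → pop v = 16 := fun v hv hc => by
    rw [K.sg_eq hv] at hc
    have e := (tr_isConj (hF _ hc))
    rw [show tr (z0 : K2) = 5 from by rw [show (z0 : K2) = sgn Data.zm from sgn_zm.symm]; exact tr_base.1] at e
    rcases av_trace hv with ⟨h0, -⟩ | ⟨-, h⟩ | ⟨-, h⟩ | ⟨h, -⟩
    · subst h0
      change tr (sgn 0) = 5 at e
      rw [tr_sgn (avMasks_spec 0 zero_av)] at e
      exact absurd e (by decide +kernel)
    · change tr (sgn v) = 5 at e; rw [h] at e; exact absurd e (by decide)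
    · change tr (sgn v) = 5 at e; rw [h] at e; exact absurd e (by decide)
    · exact h
  have hpop : ∀ v ∈ avMasks, (pop (L v) = 16 ↔ pop v = 16) := fun v hv => by
    have hc : IsConj (K.sg v) (K.sg (L v)) := isConj_iff.2 ⟨n, hLe v hv⟩
    exact ⟨fun h => h16 v hv (hc.trans (hfull _ (hLm v hv) h)),
      fun h => h16 _ (hLm v hv) (hc.symm.trans (hfull v hv h))⟩
  have hxor : ∀ a ∈ avMasks, ∀ b ∈ avMasks, L (a ^^^ b) = L a ^^^ L b := fun a ha b hb =>
    K.sg_inj (hLm _ (xor_av ha hb)) (xor_av (hLm a ha) (hLm b hb)) (by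
      rw [← hLe _ (xor_av ha hb), K.sg_xor (hLm a ha) (hLm b hb), ← hLe a ha, ← hLe b hb,
        K.sg_xor ha hb]
      group)
  have hinj : ∀ a ∈ avMasks, ∀ b ∈ avMasks, L a = L b → a = b := fun a ha b hb e =>
    K.sg_inj ha hb (conj_injective (x := n) (by
      show n * K.sg a * n⁻¹ = n * K.sg b * n⁻¹
      rw [hLe a ha, hLe b hb, e]))
  have hzm16 : pop Data.zm = 16 := by decide +kernel
  have hmov : L Data.zm ≠ Data.zm := fun e => hnz (by
    have := hLe _ zm_av
    rwa [e, K.sg_zm] at this)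
  have hS : L Data.zm ∈ S16 := mem_S16.2 ⟨hLm _ zm_av, (hpop _ zm_av).2 hzm16⟩
  have key : ∀ w : List ℕ, evM w Data.zm = L Data.zm → ev w ∈ Re K := by
    intro w hw
    obtain ⟨x, hx, hxe⟩ := exists_word (L := fun v => mv (ev w)⁻¹ (L v))
      { mem := fun v hv => (mv_spec _ (hLm v hv)).1
        xor := fun a ha b hb => by rw [hxor a ha b hb, mv_xor _ (hLm a ha) (hLm b hb)]
        inj := fun a ha b hb e => hinj a ha b hb (by
          have := congrArg (mv (ev w)) e
          rwa [← mv_mul _ _ (hLm a ha), ← mv_mul _ _ (hLm b hb), mul_inv_cancel, mv_one (hLm a ha),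
            mv_one (hLm b hb)] at this)
        pop16 := fun v hv => by rw [(mv_spec _ (hLm v hv)).2.1, hpop v hv]
        fix := by
          show mv (ev w)⁻¹ (L Data.zm) = _
          rw [← hw, ← mv_ev w zm_av, ← mv_mul _ _ zm_av, inv_mul_cancel, mv_one zm_av] }
    have h1 : ev w * ev x ∈ Re K := ⟨n, fun v hv => by
      rw [hLe v hv, mv_mul _ _ hv, mv_ev x hv, ← hxe v hv, ← mv_mul _ _ (hLm v hv), mul_inv_cancel,
        mv_one (hLm v hv)]⟩
    have := mul_mem h1 (inv_mem (re_of_fix K (ev_fix hx)))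
    rwa [mul_inv_cancel_right] at this
  have hab : ∀ w : List ℕ, (∀ k ∈ w, k < 2) → ev w ∈ Re K := fun w hw => re_of_fix K (ev_fix hw)
  have h2 : gen 2 ∈ Re K := by
    rcases move_cover _ hS with e | ⟨⟨c, w⟩, -, hw, he⟩ | ⟨⟨c, w⟩, -, hw, he⟩
    · exact absurd e hmov
    · have h1 := key _ he
      rw [ev_append, Subgroup.mul_mem_cancel_left _ (hab w (by simpa using hw))] at h1
      rwa [ev_cons, ev_nil, mul_one] at h1
    · have h1 := key _ he
      rw [ev_append, Subgroup.mul_mem_cancel_left _ (hab w (by simpa using hw))] at h1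
      obtain ⟨-, hU, hlt⟩ := toU_ok
      set u := (Data.toU.map fun k => if k = 2 then Data.m0 else [k]).flatten with hu
      have hflat : ∀ l : List ℕ, (∀ k ∈ l, k < 3) →
          ev (l.map fun k => if k = 2 then Data.m0 else [k]).flatten ∈ Re K := by
        intro l
        induction l with
        | nil => intro _; simpa [ev_nil] using one_mem _
        | cons k t ih =>
          intro hl
          rw [List.map_cons, List.flatten_cons, ev_append]
          refine mul_mem ?_ (ih fun j hj => hl j (List.mem_cons_of_mem _ hj))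
          split_ifs with hk
          · exact h1
          · exact hab [k] (by simp; have := hl k List.mem_cons_self; omega)
      have h3 : ev u ∈ Re K := hflat _ (by simpa using hlt)
      have h4 : (ev u)⁻¹ * gen 2 ∈ Re K := by
        refine re_of_fix K ?_
        rw [mv_mul _ _ zm_av, mv_gen 2 zm_av, show pmask (genP 2) Data.zm = evM [2] Data.zm from rfl, ← hU,
          ← mv_ev u zm_av, ← mv_mul _ _ zm_av, inv_mul_cancel, mv_one zm_av]
      simpa using mul_mem h3 h4
  have hev : ∀ w : List ℕ, ev w ∈ Re K := by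
    intro w
    induction w with
    | nil => rw [ev_nil]; exact one_mem _
    | cons k t ih =>
      rw [ev_cons]
      refine mul_mem ?_ ih
      match k with
      | 0 => simpa [ev_cons, ev_nil] using hab [0] (by simp)
      | 1 => simpa [ev_cons, ev_nil] using hab [1] (by simp)
      | _ + 2 => exact h2
  have hall : ∀ σ : ↥MP, ∃ w : List ℕ, σ = ev w := by
    intro σ
    have hv : mv σ Data.zm ∈ S16 := mem_S16.2
      ⟨(mv_spec σ zm_av).1, (mv_spec σ zm_av).2.1.trans hzm16⟩
    obtain ⟨w, hw⟩ : ∃ w : List ℕ, evM w Data.zm = mv σ Data.zm := by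
      rcases move_cover _ hv with e | ⟨e, -, -, he⟩ | ⟨e, -, -, he⟩
      exacts [⟨[], e.symm⟩, ⟨_, he⟩, ⟨_, he⟩]
    obtain ⟨x, -, hx⟩ := exists_ev_fix (σ := (ev w)⁻¹ * σ) (by
      rw [mv_mul _ _ zm_av, ← hw, ← mv_ev w zm_av, ← mv_mul _ _ zm_av, inv_mul_cancel, mv_one zm_av])
    exact ⟨w ++ x, by rw [ev_append, ← hx, mul_inv_cancel_left]⟩
  refine ⟨fun σ => ?_, hall⟩
  obtain ⟨w, rfl⟩ := hall σ
  exact hev w

end Mono

end Cfsg.Agent.CoTwoUniq
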