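import Cfsg.Agent.CoTwoUniq.Mono.TwistFacts

/-!
The twist is refuted by the fusion of one odd involution.
-/

set_option autoImplicit false
set_option maxRecDepth 100000

open Cfsg

namespace Cfsg.Agent.CoTwoUniq.Mono

open Cfsg.Agent.Leech (bitWord signCo0 permCo0 idx ptOf)

universe u

variable {G : Type u} [Group G] {z : G}

/-- A twisted lift contradicts the fusion. -/
theorem no_twist (K : CentEmb z) (hF : K.HasFusion) (hfull : K.HasFull) {f : ↥MP →* G} (hf : Act K f)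
    (hA : K.g ⟨pHom (gen 0), pHom_mem_C1 (σ := gen 0) (by rw [mv_gen 0 zm_av]; exact evM_zm 0 (by norm_num))⟩
      = f (gen 0))
    (hB : K.g ⟨pHom (gen 1), pHom_mem_C1 (σ := gen 1) (by rw [mv_gen 1 zm_av]; exact evM_zm 1 (by norm_num))⟩
      = z * f (gen 1)) : False := by
  obtain ⟨hc, hc2, hv, hv16, hc2e, hw, hw2, ho, ho2, hconj⟩ := tw_facts
  have hzf : ∀ w : List ℕ, (∀ k ∈ w, k < 2) → Commute z (f (ev w)) := fun w h => by
    have e := hf (ev w) _ zm_av
    rw [ev_fix h, K.sg_zm, mul_inv_eq_iff_eq_mul] at e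
    exact e.symm
  have hzz : z * z = 1 := by
    rw [← K.sg_zm, ← K.sg_xor zm_av zm_av, Nat.xor_self, sg_zero]
  -- the embedding on a word is the lift times a power of the involution
  have htw : ∀ (w : List ℕ) (h : ∀ k ∈ w, k < 2),
      K.g ⟨pHom (ev w), pHom_mem_C1 (ev_fix h)⟩ = z ^ (w.count 1) * f (ev w) := by
    intro w
    induction w with
    | nil =>
      intro _
      rw [List.count_nil, pow_zero, one_mul]
      exact (congrArg K.g (Subtype.ext (map_one pHom))).trans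
        ((map_one K.g).trans (map_one f).symm)
    | cons k t ih =>
      intro h
      have ht : ∀ j ∈ t, j < 2 := fun j hj => h j (List.mem_cons_of_mem _ hj)
      have hk : mv (gen k) Data.zm = Data.zm := by
        rw [mv_gen k zm_av]; exact evM_zm k (h k List.mem_cons_self)
      have e : (⟨pHom (ev (k :: t)), pHom_mem_C1 (ev_fix h)⟩ : ↥C1) =
          ⟨pHom (gen k), pHom_mem_C1 hk⟩ * ⟨pHom (ev t), pHom_mem_C1 (ev_fix ht)⟩ :=
        Subtype.ext ((congrArg pHom (ev_cons k t)).trans (map_mul pHom _ _))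
      refine (congrArg K.g e).trans ((map_mul K.g _ _).trans ?_)
      rw [ih ht]
      have hk2 := h k List.mem_cons_self
      have hzk : Commute z (f (gen k)) := by
        have := hzf [k] (by simpa using hk2)
        simpa [ev_cons, ev_nil] using this
      have hzp : f (gen k) * z ^ t.count 1 = z ^ t.count 1 * f (gen k) :=
        ((hzk.pow_left _).eq).symm
      match k, hk2 with
      | 0, _ =>
        rw [hA, List.count_cons_of_ne (by decide : (0 : ℕ) ≠ 1), ev_cons, map_mul, ← mul_assoc,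
          hzp, mul_assoc]
      | 1, _ =>
        rw [hB, List.count_cons_self, pow_succ', ev_cons, map_mul]
        simp only [mul_assoc]
        rw [← mul_assoc (f (gen 1)), hzp, mul_assoc]
  have hpow : ∀ n : ℕ, n % 2 = 1 → z ^ n = z := fun n hn => by
    rw [← Nat.div_add_mod n 2, hn, pow_add, pow_mul, pow_two, hzz, one_pow, one_mul, pow_one]
  have hw' : ∀ k ∈ Data.twW, k < 2 := by simpa using hw
  have hw2' : ∀ k ∈ Data.twW2, k < 2 := by simpa using hw2
  have hm1 : y1 ∈ C1 := mul_mem (sgn_mem_C1 (xor_av hc zm_av)) (pHom_mem_C1 (ev_fix hw'))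
  have hm2 : y2 ∈ C1 := mul_mem (sgn_mem_C1 hc2) (pHom_mem_C1 (ev_fix hw2'))
  have e1 : K.g ⟨y1, hm1⟩ = K.sg Data.twC * f (ev Data.twW) := by
    rw [show (⟨y1, hm1⟩ : ↥C1) = ⟨_, sgn_mem_C1 (xor_av hc zm_av)⟩ * ⟨_, pHom_mem_C1 (ev_fix hw')⟩
      from rfl, map_mul, ← K.sg_eq (xor_av hc zm_av), K.sg_xor hc zm_av, K.sg_zm, htw _ hw', hpow _ ho, mul_assoc,
      ← mul_assoc z, hzz, one_mul]
  have e2 : K.g ⟨y2, hm2⟩ = K.sg (evM [2] Data.twC) * f (ev Data.twW2) := by
    rw [show (⟨y2, hm2⟩ : ↥C1) = ⟨_, sgn_mem_C1 hc2⟩ * ⟨_, pHom_mem_C1 (ev_fix hw2')⟩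
      from rfl, map_mul, ← K.sg_eq hc2]
    rw [hc2e, K.sg_xor (evM_av _ hc) zm_av, K.sg_zm, htw _ hw2', hpow _ ho2, mul_assoc,
      ← mul_assoc z, hzz, one_mul]
  have hUW : ev [2] * ev Data.twW = ev Data.twW2 * ev [2] := by
    rw [← ev_append, ← ev_append]
    refine (inv_mul_eq_one.1 (eq_one_of_mv fun n hn => ?_)).symm
    have e : mv (ev ([2] ++ Data.twW)) n = mv (ev (Data.twW2 ++ [2])) n := by
      rw [mv_ev _ hn, mv_ev _ hn]
      exact beq_iff_eq.1 (List.all_eq_true.1 hconj n hn)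
    rw [mv_mul _ _ hn, e, ← mv_mul _ _ hn, inv_mul_cancel, mv_one hn]
  have hc12 : IsConj (K.g ⟨y1, hm1⟩) (K.g ⟨y2, hm2⟩) := by
    refine isConj_iff.2 ⟨f (ev [2]), ?_⟩
    rw [e1, e2, ← mv_ev [2] hc, ← hf (ev [2]) _ hc]
    have : f (ev Data.twW2) = f (ev [2]) * f (ev Data.twW) * (f (ev [2]))⁻¹ := by
      rw [← map_mul, hUW, map_mul, mul_inv_cancel_right]
    rw [this]; group
  obtain ⟨X, hX⟩ := exists_conj_y1
  have hc1 : IsConj (K.g ⟨y1, hm1⟩) z := by
    refine IsConj.trans (isConj_iff.2 ⟨K.g X, ?_⟩) (hfull _ hv hv16)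
    rw [K.sg_eq hv, ← map_inv, ← map_mul, ← map_mul]
    exact congrArg K.g (Subtype.ext hX)
  have h5 := tr_isConj (hF ⟨y2, hm2⟩ (hc12.symm.trans hc1))
  rw [show (z0 : K2) = sgn Data.zm from sgn_zm.symm, tr_base.1] at h5
  exact tr_y2 h5

end Cfsg.Agent.CoTwoUniq.Mono
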