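import Cfsg.Agent.CoTwoUniq.Mono.Glue

/-!
The odd involution refuting the twist: finite facts. It is conjugate to a sign change inside the
centraliser, its image under the swap to none of the conjugates of the marked involution.
-/

set_option autoImplicit false
set_option maxRecDepth 100000

open Cfsg

namespace Cfsg.Agent.CoTwoUniq.Mono

open Cfsg.Agent.Leech (bitWord signCo0 permCo0 idx ptOf monGen LGen toL toL_injective)
open Cfsg.Agent.Leech.CentTwo (gM0 gM2 gX qGens qGens_mem CT)

theorem tw_ok : PermOK Data.twP Data.twQ ∧ PermOK Data.twP2 Data.twQ2 ∧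
    (∀ i < 24, Data.twP.getD i 0 < 24) ∧ (∀ i < 24, Data.twP2.getD i 0 < 24) := by
  refine ⟨?_, ?_, ?_, ?_⟩ <;> decide +kernel

/-- The two permutations are the words. -/
theorem ev_tw : ev Data.twW = ⟨perm tw_ok.1, perm_mem_MP _⟩ ∧
    ev Data.twW2 = ⟨perm tw_ok.2.1, perm_mem_MP _⟩ := by
  have key : ∀ (w P Q : List ℕ) (h : PermOK P Q) (_ : ∀ i < 24, P.getD i 0 < 24),
      (∀ n ∈ avMasks, evM w n = pmask P n) → ev w = ⟨perm h, perm_mem_MP h⟩ := by
    intro w P Q h hP he
    refine (inv_mul_eq_one.1 (eq_one_of_mv fun n hn => ?_)).symm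
    have e : mv (⟨perm h, perm_mem_MP h⟩ : ↥MP) n = mv (ev w) n := by
      rw [mv_ev w hn, he n hn]
      refine eq_of_bitWord (av_lt _ (mv_spec _ hn).1) (pmask_lt P n) ?_
      rw [bitWord_mv _ hn, bitWord_pmask h hP]
    rw [mv_mul _ _ hn, ← e, ← mv_mul _ _ hn, inv_mul_cancel, mv_one hn]
  have h1 : (avMasks.all fun n => evM Data.twW n == pmask Data.twP n) = true := by decide +kernel
  have h2 : (avMasks.all fun n => evM Data.twW2 n == pmask Data.twP2 n) = true := by decide +kernel
  exact ⟨key _ _ _ _ tw_ok.2.2.1 fun n hn => beq_iff_eq.1 (List.all_eq_true.1 h1 n hn),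
    key _ _ _ _ tw_ok.2.2.2 fun n hn => beq_iff_eq.1 (List.all_eq_true.1 h2 n hn)⟩

theorem tw_facts : Data.twC ∈ avMasks ∧ Data.twC2 ∈ avMasks ∧ Data.twV ∈ avMasks ∧ pop Data.twV = 16 ∧
    Data.twC2 = evM [2] Data.twC ^^^ Data.zm ∧
    (Data.twW.all fun k => decide (k < 2)) = true ∧ (Data.twW2.all fun k => decide (k < 2)) = true ∧
    Data.twW.count 1 % 2 = 1 ∧ Data.twW2.count 1 % 2 = 1 ∧
    (avMasks.all fun n => evM ([2] ++ Data.twW) n == evM (Data.twW2 ++ [2]) n) = true := by
  refine ⟨List.contains_iff_mem.1 (by decide +kernel), List.contains_iff_mem.1 (by decide +kernel),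
    List.contains_iff_mem.1 (by decide +kernel), ?_, ?_, ?_, ?_, ?_, ?_, ?_⟩ <;> decide +kernel

/-- The odd involution. -/
noncomputable def y1 : K2 := sgn (Data.twC ^^^ Data.zm) * pHom (ev Data.twW)

/-- Its partner. -/
noncomputable def y2 : K2 := sgn Data.twC2 * pHom (ev Data.twW2)

theorem tr_y2 : tr y2 ≠ 5 := by
  rw [tr, y2, map_mul, inc_sgn (avMasks_spec _ tw_facts.2.1), inc_pHom, ev_tw.2, trace_mono]
  decide +kernel

/-- The conjugating element as a lattice automorphism. -/
def xTw : LGen := gX.comp (gM0.comp (gM2.comp gM0))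

theorem xTw_mem : xTw.g ∈ CT :=
  mul_mem (qGens_mem gX (by simp [qGens])) (mul_mem (qGens_mem gM0 (by simp [qGens]))
    (mul_mem (qGens_mem gM2 (by simp [qGens])) (qGens_mem gM0 (by simp [qGens]))))

/-- The odd involution is conjugate inside the centraliser to a sign change of weight sixteen. -/
theorem exists_conj_y1 : ∃ X : ↥C1, (X : K2) * y1 * (X : K2)⁻¹ = sgn Data.twV := by
  refine ⟨S2136.centEquiv.symm ⟨xTw.g, xTw_mem⟩, ?_⟩
  rw [mul_inv_eq_iff_eq_mul]
  refine inc_injective ?_
  rw [y1, map_mul, map_mul, map_mul, inc_sgn (avMasks_spec _ tw_facts.2.2.1),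
    inc_sgn (avMasks_spec _ (xor_av tw_facts.1 zm_av)), inc_pHom, ev_tw.1]
  show xTw.g * (signCo0 _ _ * permCo0 (perm tw_ok.1) _) = signCo0 _ _ * xTw.g
  refine Leech.ext_of_oct fun i => Subtype.ext (funext fun q => ?_)
  have key : ∀ i : GolayPt,
      xTw.f ((List.range 24).map fun a => if (Data.twC ^^^ Data.zm).testBit a then
          -((toL (Leech.oct i : GolayPt → ℤ)).getD (Data.twP.getD a 0) 0) else
          (toL (Leech.oct i : GolayPt → ℤ)).getD (Data.twP.getD a 0) 0) =
        (List.range 24).map fun a => if Data.twV.testBit a then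
          -((xTw.f (toL (Leech.oct i : GolayPt → ℤ))).getD a 0) else
          (xTw.f (toL (Leech.oct i : GolayPt → ℤ))).getD a 0 := by decide +kernel
  have hsign : ∀ (m : ℕ) (h : bitWord m ∈ golayCode) (v : leechLattice),
      toL ((signCo0 (bitWord m) h • v : leechLattice) : GolayPt → ℤ) =
        (List.range 24).map fun a => if m.testBit a then -((toL (v : GolayPt → ℤ)).getD a 0)
          else (toL (v : GolayPt → ℤ)).getD a 0 := fun m h v => by
    refine List.map_congr_left fun a ha => ?_
    have hi : a < 24 := List.mem_range.1 ha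
    rw [Leech.toL_getD _ _ hi, Leech.signCo0_apply]
    simp only [Leech.negOn, bitWord, Leech.idx_ptOf a hi]
    cases m.testBit a <;> simp
  have hperm : ∀ v : leechLattice,
      toL ((permCo0 (perm tw_ok.1) (perm_mem tw_ok.1) • v : leechLattice) : GolayPt → ℤ) =
        (List.range 24).map fun a => (toL (v : GolayPt → ℤ)).getD (Data.twP.getD a 0) 0 := fun v => by
    refine List.map_congr_left fun a ha => ?_
    have hi : a < 24 := List.mem_range.1 ha
    rw [Leech.toL_getD _ _ (tw_ok.2.2.1 a hi), Leech.permCo0_apply]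
    show (v : GolayPt → ℤ) (ptOf (Data.twP.getD (idx (ptOf a)) 0)) = _
    rw [Leech.idx_ptOf a hi]
  refine congrFun (toL_injective ?_) q
  rw [mul_smul, xTw.spec, mul_smul, hsign, hperm, mul_smul, hsign, xTw.spec]
  refine Eq.trans (congrArg xTw.f (List.map_congr_left fun a ha => ?_)) (key i)
  have hi : a < 24 := List.mem_range.1 ha
  simp only [List.getD_eq_getElem?_getD, List.getElem?_map, List.getElem?_range hi, Option.map_some,
    Option.getD_some]

end Cfsg.Agent.CoTwoUniq.Mono
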